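import Cfsg.Agent.LocalThree.HallJankoType.AltFive
import Cfsg.Agent.LocalThree.HallJankoType.Involutions

/-!
Finite facts about even permutations of five letters used to find the five involutions.
-/

set_option autoImplicit false
set_option maxRecDepth 4000

namespace Cfsg.Lib.HallJankoType.Iso

open Equiv

theorem exists_b : ∃ B ∈ invList, (tau1 * B) ^ 5 = 1 ∧ tau1 * B ≠ 1 ∧ (B * tau2) ^ 3 = 1 ∧ B * tau2 ≠ 1 := by
  decide +kernel

theorem four_group_cent : ∀ p ∈ invList, ∀ q ∈ invList, p ≠ 1 → q ≠ 1 → p ≠ q → p * q = q * p →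
    ∀ s : Perm (Fin 5), s * p = p * s → s * q = q * s → s = 1 ∨ s = p ∨ s = q ∨ s = p * q := by decide +kernel

theorem invert_three : ∀ r : Perm (Fin 5), r ^ 3 = 1 → r ≠ 1 → ∃ k ∈ invList, k ≠ 1 ∧ k * r * k = r⁻¹ := by
  decide +kernel

theorem partner : ∀ T ∈ invList, T ≠ 1 → ∃ D ∈ invList, D ≠ 1 ∧ (D * T) ^ 3 = 1 ∧ D ≠ T := by decide +kernel

theorem moves : ∀ T ∈ invList, ∀ D ∈ invList, T ≠ 1 → D ≠ 1 → D ≠ T → (D * T) ^ 3 = 1 →
    ∀ i, T i = i → D i ≠ i := by decide +kernel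

set_option synthInstance.maxSize 1024 in
set_option synthInstance.maxHeartbeats 200000 in
theorem four_order_three : ∀ p : Perm (Fin 5), p ^ 3 = 1 → p ≠ 1 → ∀ T ∈ invList, T ≠ 1 → ∀ i,
    p i = i → T i = i → (p * T) ^ 3 = 1 := by decide +kernel

theorem inverting : ∀ B ∈ invList, ∀ P ∈ invList, (B * tau2) ^ 3 = 1 → B * tau2 ≠ 1 →
    P * (B * tau2) * P = (B * tau2)⁻¹ → P ≠ 1 → P = B ∨ P = tau2 ∨ P = B * tau2 * B := by decide +kernel

theorem mem_invList {p : Perm (Fin 5)} (h : p * p = 1) (hs : Perm.sign p = 1) : p ∈ invList :=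
  (invList_spec p).1 ⟨h, hs⟩

theorem mem_invList' {p : alternatingGroup (Fin 5)} (h : p * p = 1) : (p : Perm (Fin 5)) ∈ invList :=
  mem_invList (congrArg Subtype.val h) (Equiv.Perm.mem_alternatingGroup.1 p.2)

theorem alt_of_invList {p : Perm (Fin 5)} (h : p ∈ invList) :
    ∃ q : alternatingGroup (Fin 5), (q : Perm (Fin 5)) = p ∧ q * q = 1 :=
  ⟨⟨p, Equiv.Perm.mem_alternatingGroup.2 ((invList_spec p).2 h).2⟩, rfl, Subtype.ext ((invList_spec p).2 h).1⟩

end Cfsg.Lib.HallJankoType.Iso
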