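import Cfsg.Agent.LocalThree.HallJankoType.TLocal
import Cfsg.Agent.LocalThree.HallJankoType.Iso.Perms

/-!
Centralizers of elements of order three and five under an inverting involution.
-/

set_option autoImplicit false
set_option linter.unusedSectionVars false
set_option linter.style.haveILetI false

namespace Cfsg.Lib.HallJankoType

open Subgroup Equiv

universe u

variable {G : Type u} [Group G] [Finite G] {z : G} {Q : Subgroup G} {a : Fin 5 → G} {σ : Cz z →* Perm (Fin 5)}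

namespace Iso

theorem three_factor : ∀ T ∈ invList, T ≠ 1 →
    ∃ p : Perm (Fin 5), Perm.sign p = 1 ∧ p ^ 3 = 1 ∧ (p⁻¹ * T) ^ 3 = 1 := by decide +kernel

theorem inv_conj {k x : G} (kk : k * k = 1) (kx : k * x * k = x⁻¹) (i : ℤ) : k * x ^ i * k = x ^ (-i) := by
  have hk : k⁻¹ = k := inv_eq_of_mul_eq_one_right kk
  have h := map_zpow (MulAut.conj k) x i
  simp only [MulAut.conj_apply, hk] at h
  rw [h, kx, inv_zpow']

theorem conj_mem_Cz {k x g : G} (kk : k * k = 1) (kx : k * x * k = x⁻¹) (hg : g ∈ Cz x) : k * g * k ∈ Cz x := by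
  have hk : k⁻¹ = k := inv_eq_of_mul_eq_one_right kk
  have h1 : k * x⁻¹ * k = x := by
    have := inv_conj kk kx (-1)
    simpa using this
  have h2 := (Commute.conj_iff k).2 (mem_Cz.1 hg).inv_right
  rw [hk, h1] at h2
  exact mem_Cz.2 h2

theorem one_of_sq {x g : G} (hodd : Odd (orderOf x)) (hg : g ∈ zpowers x) (h2 : g * g = 1) : g = 1 := by
  obtain ⟨i, rfl⟩ := mem_zpowers_iff.1 hg
  have a1 : orderOf (x ^ i) ∣ 2 := orderOf_dvd_of_pow_eq_one (by rw [pow_two]; exact h2)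
  have a2 : orderOf (x ^ i) ∣ orderOf x := orderOf_dvd_of_pow_eq_one (by
    rw [← zpow_natCast, ← zpow_mul, mul_comm, zpow_mul, zpow_natCast, pow_orderOf_eq_one, one_zpow])
  exact orderOf_eq_one_iff.1 (Nat.eq_one_of_dvd_coprimes (Nat.coprime_two_left.2 hodd) a1 a2)

/-- If an involution inverting `x` acts trivially modulo `x`, every class has one representative commuting with it. -/
theorem lifts {A : Type*} [Group A] {x k : G} (ψ : Cz x →* A) (hψ : Function.Surjective ψ)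
    (hker : ψ.ker = (zpowers x).subgroupOf (Cz x)) (hodd : Odd (orderOf x)) (kk : k * k = 1)
    (kx : k * x * k = x⁻¹)
    (htriv : ∀ g : Cz x, ψ ⟨k * g * k, conj_mem_Cz kk kx g.2⟩ = ψ g) :
    (∀ α : A, ∃ g : Cz x, ψ g = α ∧ Commute (g : G) k) ∧
      ∀ g : Cz x, ψ g = 1 → Commute (g : G) k → g = 1 := by
  have hx : x ∈ Cz x := mem_Cz.2 (Commute.refl x)
  have hk : k⁻¹ = k := inv_eq_of_mul_eq_one_right kk
  have hz : ∀ g : Cz x, ψ g = 1 ↔ (g : G) ∈ zpowers x := fun g => by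
    rw [← MonoidHom.mem_ker, hker, mem_subgroupOf]
  refine ⟨fun α => ?_, fun g hg hc => ?_⟩
  · obtain ⟨g, rfl⟩ := hψ α
    have h1 : ψ (g⁻¹ * ⟨k * g * k, conj_mem_Cz kk kx g.2⟩) = 1 := by
      rw [map_mul, htriv, map_inv, inv_mul_cancel]
    obtain ⟨i, hi⟩ := mem_zpowers_iff.1 ((hz _).1 h1)
    have hi' : k * g * k = g * x ^ i := by rw [hi]; simp
    obtain ⟨m, hm⟩ := hodd
    set n : ℤ := i * (m + 1) with hn
    refine ⟨g * (⟨x, hx⟩ : Cz x) ^ n, ?_, ?_⟩
    · rw [map_mul, (hz ((⟨x, hx⟩ : Cz x) ^ n)).2 (by rw [SubgroupClass.coe_zpow]; exact zpow_mem_zpowers x n), mul_one]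
    · have h2 : k * ((g : G) * x ^ n) * k = (g : G) * x ^ n := by
        rw [show k * ((g : G) * x ^ n) * k = k * g * (k * k) * x ^ n * k by rw [kk]; group,
          show k * (g : G) * (k * k) * x ^ n * k = (k * g * k) * (k * x ^ n * k) by group, hi', inv_conj kk kx,
          mul_assoc, ← zpow_add]
        congr 1
        rw [← mul_inv_eq_one, ← zpow_neg, ← zpow_add,
          show i + -n + -n = (orderOf x : ℤ) * (-i) by rw [hn, hm]; push_cast; ring, zpow_mul, zpow_natCast,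
          pow_orderOf_eq_one, one_zpow]
      show Commute ((g : G) * x ^ n) k
      refine Commute.symm ?_
      show k * ((g : G) * x ^ n) = (g : G) * x ^ n * k
      calc k * ((g : G) * x ^ n) = k * ((g : G) * x ^ n) * (k * k) := by rw [kk, mul_one]
        _ = (g : G) * x ^ n * k := by rw [← mul_assoc, h2]
  · obtain ⟨i, hi⟩ := mem_zpowers_iff.1 ((hz g).1 hg)
    refine Subtype.ext (one_of_sq hodd ((hz g).1 hg) ?_)
    have h2 : k * (g : G) * k = g := by rw [← hc.eq, mul_assoc, kk, mul_one]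
    rw [← hi, inv_conj kk kx, zpow_neg] at h2
    rw [← hi]
    exact inv_eq_iff_mul_eq_one.1 h2

end Iso

namespace Hyp

variable (H : Hyp z Q a σ)
include H

theorem ot {t : G} (ht : Outer z Q t) : orderOf t = 2 :=
  Cfsg.Lib.InvolCalc.order_two_of_mul_self ht.2.1 fun e => ht.2.2 (e ▸ one_mem Q)

theorem z_mem_K {t w h : G} {K W : Subgroup G} (S : TData z Q t w h K W) : z ∈ K :=
  (S.KE z ((S.tri.props.inQ z).2 (by simp [Vset])).1).2 (by simp [Vset])

theorem K_conj {t w h : G} {K W : Subgroup G} (S : TData z Q t w h K W) {x : G} (hx : x ∈ K) (hxx : x * x = 1)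
    (hx1 : x ≠ 1) : IsConj z x := by
  obtain ⟨g, hg, hgE⟩ := S.invol x (S.le hx) hxx
  have hQ := ((S.tri.props.inQ _).2 ((S.KE _ hgE).1 (S.norm g hg x hx))).2
  have h1 := H.pts_conj hQ (by rw [show g * x * g⁻¹ * (g * x * g⁻¹) = g * (x * x) * g⁻¹ by group, hxx]; group)
    fun e => hx1 (conj_eq_one_iff.1 e)
  exact h1.trans (isConj_iff.2 ⟨g⁻¹, by group⟩)

theorem W_outer {t w h : G} {K W : Subgroup G} (S : TData z Q t w h K W) {u : G} (hu : u ∈ W) (hu1 : u ≠ 1) :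
    Outer z Q u :=
  ⟨(mem_Ey.1 (S.Wle hu)).1, S.tri.props.sq _ (S.Wle hu), fun hQ => hu1 (S.disj u
    ((S.KE u (S.Wle hu)).2 ((S.tri.props.inQ u).1 ⟨S.Wle hu, hQ⟩)) hu)⟩

/-- The product of commuting involutions of the two classes is conjugate to an outer involution. -/
theorem mul_outer {t k l : G} (ht : Outer z Q t) (hk : IsConj z k) (hl : IsConj t l) (hc : Commute k l) :
    ∃ g, Outer z Q (g * (k * l) * g⁻¹) := by
  have D := H.data
  obtain ⟨g, hg⟩ := isConj_iff.1 hk.symm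
  have hl' : IsConj t (g * l * g⁻¹) := hl.trans (isConj_iff.2 ⟨g, rfl⟩)
  have hlC : g * l * g⁻¹ ∈ Cz z := mem_Cz.2 (hg ▸ (Commute.conj_iff g).2 hc.symm)
  have hO : Outer z Q (g * l * g⁻¹) := (H.outer_iff hlC (order_two_of_conj (H.ot ht) hl')).2 fun e =>
    H.outer_not_conj ht (e.trans hl'.symm)
  refine ⟨g, ?_⟩
  rw [show g * (k * l) * g⁻¹ = (g * k * g⁻¹) * (g * l * g⁻¹) by group, hg]
  set l' := g * l * g⁻¹
  have hcz : Commute z l' := (mem_Cz.1 hlC).symm
  refine ⟨mul_mem (mem_Cz.2 (Commute.refl z)) hO.1, ?_, fun h => hO.2.2 ((Q.mul_mem_cancel_left D.frame.x2.mem).1 h)⟩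
  rw [show z * l' * (z * l') = z * (l' * z) * l' by group, ← hcz.eq,
    show z * (z * l') * l' = z * z * (l' * l') by group, D.zz, hO.2.1, mul_one]

theorem not_conj_of_outer {y g : G} (hg : Outer z Q (g * y * g⁻¹)) : ¬ IsConj z y := fun e =>
  H.outer_not_conj hg (e.trans (isConj_iff.2 ⟨g, rfl⟩))

/-- A conjugate of an outer involution inverting `x` cannot act trivially on the `A₅`. -/
theorem no_cover {t x y : G} (ht : Outer z Q t) (hodd : Odd (orderOf x))
    (ψ : Cz x →* alternatingGroup (Fin 5)) (hψ : Function.Surjective ψ)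
    (hker : ψ.ker = (zpowers x).subgroupOf (Cz x)) (htx : t ∈ Cz x) (hyy : y * y = 1)
    (hyx : y * x * y = x⁻¹) (hy : ∃ g, Outer z Q (g * y * g⁻¹)) (hyt : Commute y t)
    (htriv : ∀ g : Cz x, ψ ⟨y * g * y, Iso.conj_mem_Cz hyy hyx g.2⟩ = ψ g) : False := by
  obtain ⟨hlift, huniq⟩ := Iso.lifts ψ hψ hker hodd hyy hyx htriv
  set tt : Cz x := ⟨t, htx⟩ with htt
  have ot := H.ot ht
  have htt2 : tt * tt = 1 := Subtype.ext ht.2.1
  have hT : ψ tt ≠ 1 := fun e => by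
    have := huniq tt e hyt.symm
    rw [show t = 1 from congrArg Subtype.val this, orderOf_one] at ot
    omega
  obtain ⟨p, hp, hp3, hpq⟩ := Iso.three_factor _ (Iso.mem_invList' (show ψ tt * ψ tt = 1 by
    rw [← map_mul, htt2, map_one])) (fun e => hT (Subtype.ext e))
  set P : alternatingGroup (Fin 5) := ⟨p, Equiv.Perm.mem_alternatingGroup.2 hp⟩ with hP
  obtain ⟨gp, hgp, hgpy⟩ := hlift P
  obtain ⟨gq, hgq, hgqy⟩ := hlift (P⁻¹ * ψ tt)
  have h3p : gp ^ 3 = 1 := huniq _ (by rw [map_pow, hgp]; exact Subtype.ext hp3)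
    (by rw [SubgroupClass.coe_pow]; exact hgpy.pow_left 3)
  have h3q : gq ^ 3 = 1 := huniq _ (by rw [map_pow, hgq]; exact Subtype.ext hpq)
    (by rw [SubgroupClass.coe_pow]; exact hgqy.pow_left 3)
  have heq : gp * gq = tt := by
    rw [← mul_inv_eq_one]
    refine huniq _ ?_ ?_
    · rw [map_mul, map_mul, map_inv, hgp, hgq, mul_inv_cancel_left, mul_inv_cancel]
    · exact (hgpy.mul_left hgqy).mul_left hyt.symm.inv_left
  obtain ⟨g, hg⟩ := hy
  obtain ⟨w, h, K, W, S, -⟩ := H.kshape hg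
  have hodd3 : ∀ v : Cz x, v ^ 3 = 1 → Commute (v : G) y → g * (v : G) * g⁻¹ ∈ K := fun v hv hvy => by
    refine S.mem_K_of_odd H.data.frame.x2.ne (mem_Cz.2 ((Commute.conj_iff g).2 hvy)) ?_
    refine Odd.of_dvd_nat (by decide : Odd 3) (orderOf_dvd_of_pow_eq_one ?_)
    rw [conj_pow, ← SubgroupClass.coe_pow, hv, OneMemClass.coe_one]; group
  have htK : g * t * g⁻¹ ∈ K := by
    rw [show t = (gp : G) * gq from (congrArg Subtype.val heq).symm,
      show g * ((gp : G) * gq) * g⁻¹ = (g * gp * g⁻¹) * (g * gq * g⁻¹) by group]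
    exact mul_mem (hodd3 gp h3p hgpy) (hodd3 gq h3q hgqy)
  refine H.outer_not_conj ht ((H.K_conj S htK ?_ ?_).trans (isConj_iff.2 ⟨g⁻¹, by group⟩))
  · rw [show g * t * g⁻¹ * (g * t * g⁻¹) = g * (t * t) * g⁻¹ by group, ht.2.1]; group
  · intro e
    rw [conj_eq_one_iff.1 e, orderOf_one] at ot
    omega

/-- An involution of `K` inverting `x` acts trivially on `C(x)/⟨x⟩`. -/
theorem act_trivial {t x k w h : G} {K W : Subgroup G} (ht : Outer z Q t) (S : TData z Q t w h K W)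
    (hxK : x ∈ K) (hodd : Odd (orderOf x)) (ψ : Cz x →* alternatingGroup (Fin 5)) (hψ : Function.Surjective ψ)
    (hker : ψ.ker = (zpowers x).subgroupOf (Cz x)) (hkK : k ∈ K) (kk : k * k = 1) (k1 : k ≠ 1)
    (kx : k * x * k = x⁻¹) : ∀ g : Cz x, ψ ⟨k * g * k, Iso.conj_mem_Cz kk kx g.2⟩ = ψ g := by
  classical
  have hz1 := H.data.frame.x2.ne
  have hxC : x ∈ Cz x := mem_Cz.2 (Commute.refl x)
  have hWsq : ∀ u ∈ W, u * u = 1 := fun u hu => S.tri.props.sq _ (S.Wle hu)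
  have hWC : ∀ u ∈ W, u ∈ Cz x := fun u hu => mem_Cz.2 (S.commute_W hz1 hu hxK)
  have hWk : ∀ u ∈ W, Commute u k := fun u hu => S.commute_W hz1 hu hkK
  have hz : ∀ g : Cz x, ψ g = 1 ↔ (g : G) ∈ zpowers x := fun g => by
    rw [← MonoidHom.mem_ker, hker, mem_subgroupOf]
  let c : Cz x →* Cz x :=
    MonoidHom.mk' (fun g => ⟨k * g * k, Iso.conj_mem_Cz kk kx g.2⟩) fun g g' => Subtype.ext (by
      show k * ((g : G) * g') * k = k * g * k * (k * g' * k)
      rw [show k * (g : G) * k * (k * g' * k) = k * g * (k * k) * g' * k by group, kk]; group)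
  have hc : ψ.ker ≤ (ψ.comp c).ker := fun g hg => by
    rw [MonoidHom.mem_ker] at hg ⊢
    obtain ⟨i, hi⟩ := mem_zpowers_iff.1 ((hz g).1 hg)
    refine (hz _).2 ?_
    show k * (g : G) * k ∈ zpowers x
    rw [← hi, Iso.inv_conj kk kx]
    exact zpow_mem_zpowers x _
  let φ₀ : alternatingGroup (Fin 5) →* alternatingGroup (Fin 5) := ψ.liftOfSurjective hψ ⟨ψ.comp c, hc⟩
  have hφ₀ : ∀ g, φ₀ (ψ g) = ψ (c g) := fun g =>
    MonoidHom.liftOfRightInverse_comp_apply ψ _ _ ⟨ψ.comp c, hc⟩ g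
  have hinvol : φ₀.comp φ₀ = MonoidHom.id _ := MonoidHom.ext fun α => by
    obtain ⟨g, rfl⟩ := hψ α
    show φ₀ (φ₀ (ψ g)) = ψ g
    rw [hφ₀, hφ₀]
    refine congrArg ψ (Subtype.ext ?_)
    show k * (k * (g : G) * k) * k = g
    rw [show k * (k * (g : G) * k) * k = k * k * g * (k * k) by group, kk, one_mul, mul_one]
  let φ : MulAut (alternatingGroup (Fin 5)) := MonoidHom.toMulEquiv φ₀ φ₀ hinvol hinvol
  obtain ⟨s, hs⟩ := Cfsg.Lib.SolvStruct.AltAut.exists_conjNormal_eq (n := 5) (by norm_num) φ fun v hv => by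
    rw [← card_support_eq_three_iff]
    have h3 : v * v * v = 1 := Subtype.ext (by
      have h := pow_orderOf_eq_one (v : Perm (Fin 5))
      rw [hv.orderOf, pow_succ, pow_two] at h
      exact h)
    refine perm_three _ (congrArg Subtype.val (show φ v * φ v * φ v = 1 by rw [← map_mul, ← map_mul, h3, map_one])) ?_
    intro e
    have e' : φ v = 1 := Subtype.ext e
    rw [map_eq_one_iff φ φ.injective] at e'
    exact hv.isCycle.ne_one (congrArg Subtype.val e')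
  have hval : ∀ g, (ψ (c g) : Perm (Fin 5)) = s * (ψ g : Perm (Fin 5)) * s⁻¹ := fun g => by
    rw [← hφ₀]
    show (φ (ψ g) : Perm (Fin 5)) = _
    rw [← hs, MulAut.conjNormal_apply]
  -- the image of `W`
  have hinj : ∀ u (hu : u ∈ W), ψ ⟨u, hWC u hu⟩ = 1 → u = 1 := fun u hu e =>
    S.disj u (zpowers_le.2 hxK ((hz _).1 e)) hu
  have hfix : ∀ u (hu : u ∈ W), s * (ψ ⟨u, hWC u hu⟩ : Perm (Fin 5)) = (ψ ⟨u, hWC u hu⟩ : Perm (Fin 5)) * s := by
    intro u hu
    have h1 := hval ⟨u, hWC u hu⟩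
    rw [show c ⟨u, hWC u hu⟩ = ⟨u, hWC u hu⟩ from Subtype.ext (show k * u * k = u by
      rw [← (hWk u hu).eq, mul_assoc, kk, mul_one])] at h1
    exact (eq_mul_inv_iff_mul_eq.1 h1).symm
  obtain ⟨u₂, hu₂, hu₂1, hu₂t⟩ : ∃ u ∈ W, u ≠ 1 ∧ u ≠ t := by
    by_contra hno
    push Not at hno
    letI := Fintype.ofFinite W
    have hle : (Finset.univ : Finset W) ⊆ {1, ⟨t, S.tW⟩} := fun b _ => by
      by_cases hb : (b : G) = 1
      · simp [Subtype.ext_iff, hb]
      · simp [Subtype.ext_iff, hno b b.2 hb]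
    have := (Finset.card_le_card hle).trans Finset.card_le_two
    rw [Finset.card_univ, ← Nat.card_eq_fintype_card, S.card_W] at this
    omega
  have ot := H.ot ht
  have ht1 : t ≠ 1 := fun e => by rw [e, orderOf_one] at ot; omega
  have hsqψ : ∀ u (hu : u ∈ W), ψ ⟨u, hWC u hu⟩ * ψ ⟨u, hWC u hu⟩ = 1 := fun u hu => by
    rw [← map_mul, show (⟨u, hWC u hu⟩ : Cz x) * ⟨u, hWC u hu⟩ = 1 from Subtype.ext (hWsq u hu), map_one]
  have hmulψ : ∀ u (hu : u ∈ W) v (hv : v ∈ W),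
      ψ ⟨u, hWC u hu⟩ * ψ ⟨v, hWC v hv⟩ = ψ ⟨u * v, hWC _ (mul_mem hu hv)⟩ := fun u hu v hv => by
    rw [← map_mul]; rfl
  obtain ⟨u, hu, hsu⟩ : ∃ u, ∃ hu : u ∈ W, s = (ψ ⟨u, hWC u hu⟩ : Perm (Fin 5)) := by
    rcases Iso.four_group_cent _ (Iso.mem_invList' (hsqψ t S.tW)) _ (Iso.mem_invList' (hsqψ u₂ hu₂))
      (fun e => ht1 (hinj t S.tW (Subtype.ext e))) (fun e => hu₂1 (hinj u₂ hu₂ (Subtype.ext e)))
      (fun e => hu₂t (by
        have h2 : u₂ * t = 1 := hinj _ (mul_mem hu₂ S.tW) (by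
          rw [← hmulψ u₂ hu₂ t S.tW, ← show ψ ⟨t, hWC t S.tW⟩ = ψ ⟨u₂, hWC u₂ hu₂⟩ from Subtype.ext e]
          exact hsqψ t S.tW)
        rw [eq_inv_of_mul_eq_one_left h2, inv_eq_of_mul_eq_one_right ht.2.1]))
      (congrArg Subtype.val (show ψ ⟨t, hWC t S.tW⟩ * ψ ⟨u₂, hWC u₂ hu₂⟩ = ψ ⟨u₂, hWC u₂ hu₂⟩ * ψ ⟨t, hWC t S.tW⟩ by
        rw [hmulψ t S.tW u₂ hu₂, hmulψ u₂ hu₂ t S.tW]
        congr 2
        exact (S.tri.props.comm _ (S.Wle S.tW) _ (S.Wle hu₂)).eq))
      s (hfix t S.tW) (hfix u₂ hu₂) with r | r | r | r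
    · exact ⟨1, one_mem W, by rw [r, show (⟨1, hWC 1 (one_mem W)⟩ : Cz x) = 1 from rfl, map_one]; rfl⟩
    · exact ⟨t, S.tW, r⟩
    · exact ⟨u₂, hu₂, r⟩
    · exact ⟨t * u₂, mul_mem S.tW hu₂, by rw [r, ← hmulψ t S.tW u₂ hu₂]; rfl⟩
  intro g
  by_cases hu1 : u = 1
  · subst hu1
    refine Subtype.ext ((hval g).trans ?_)
    rw [hsu, show (⟨1, hWC 1 hu⟩ : Cz x) = 1 from rfl, map_one]
    simp
  exfalso
  have hcu : Commute k u := (hWk u hu).symm
  have hyy : k * u * (k * u) = 1 := by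
    rw [show k * u * (k * u) = k * (u * k) * u by group, ← hcu.eq,
      show k * (k * u) * u = k * k * (u * u) by group, kk, hWsq u hu, mul_one]
  have hux : Commute u x := mem_Cz.1 (hWC u hu)
  have hyx : k * u * x * (k * u) = x⁻¹ := by
    rw [show k * u * x * (k * u) = k * (u * x) * (k * u) by group, hux.eq, hcu.eq,
      show k * (x * u) * (u * k) = k * x * (u * u) * k by group, hWsq u hu, mul_one, kx]
  obtain ⟨d, -, hd⟩ := H.data.outer_conj ht (H.W_outer S hu hu1)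
  refine H.no_cover ht hodd ψ hψ hker (hWC t S.tW) hyy hyx
    (H.mul_outer ht (H.K_conj S hkK kk k1) (isConj_iff.2 ⟨d, hd⟩) hcu)
    ((mem_Cz.1 (S.le hkK)).mul_left (S.tri.props.comm _ (S.Wle hu) _ (S.Wle S.tW))) fun g' => Subtype.ext ?_
  set uu : Cz x := ⟨u, hWC u hu⟩ with huu
  rw [show (⟨k * u * g' * (k * u), Iso.conj_mem_Cz hyy hyx g'.2⟩ : Cz x) = c (uu * g' * uu) from Subtype.ext (by
    show k * u * (g' : G) * (k * u) = k * (u * g' * u) * k
    exact (congrArg (fun y => k * u * (g' : G) * y) hcu.eq).trans (by group)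
    ), hval, map_mul, map_mul, hsu]
  have hss : (ψ uu : Perm (Fin 5)) * ψ uu = 1 := congrArg Subtype.val (hsqψ u hu)
  rw [Subgroup.coe_mul, Subgroup.coe_mul, inv_eq_of_mul_eq_one_right hss,
    show (ψ uu : Perm (Fin 5)) * (ψ uu * ψ g' * ψ uu) * ψ uu = (ψ uu * ψ uu) * ψ g' * (ψ uu * ψ uu) by group,
    hss, one_mul, mul_one]

/-- The centralizer of `x` and of an outer involution of `W` agree. -/
theorem cent_W {t x w h : G} {K W : Subgroup G} (S : TData z Q t w h K W)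
    (e : K ≃* alternatingGroup (Fin 5)) (hxK : x ∈ K) (ho : orderOf x = 3 ∨ orderOf x = 5) {u g : G}
    (hu : u ∈ W) (hu1 : u ≠ 1) (hgx : g ∈ Cz x) (hgu : Commute g u) : g ∈ Cz x ⊓ Cz t := by
  have hz1 := H.data.frame.x2.ne
  obtain ⟨hMc, hMdec⟩ := H.cent_in_X S e hxK ho
  obtain ⟨w', h', K', W', S', ⟨e'⟩⟩ := H.kshape (H.W_outer S hu hu1)
  have hxu : Commute u x := S.commute_W hz1 hu hxK
  have hodd : Odd (orderOf x) := by rcases ho with o | o <;> rw [o] <;> decide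
  obtain ⟨hc', -⟩ := H.cent_in_X S' e' (S'.mem_K_of_odd hz1 (mem_Cz.2 hxu.symm) hodd) ho
  have hle : Cz x ⊓ Cz t ≤ Cz x ⊓ Cz u := fun y hy => by
    obtain ⟨k, hk, u', hu', rfl⟩ := hMdec y hy
    refine ⟨hy.1, mem_Cz.2 (Commute.mul_left ?_ (S.tri.props.comm _ (S.Wle hu') _ (S.Wle hu)))⟩
    obtain ⟨j, rfl⟩ := mem_zpowers_iff.1 hk
    exact hxu.symm.zpow_left j
  rw [eq_of_le_of_card_ge hle (by rw [hc', hMc])]
  exact ⟨hgx, mem_Cz.2 hgu⟩

/-- In the small case an element inverted by an involution of `K` squares into `⟨r⟩`. -/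
theorem small_sq {t r k w h : G} {K W : Subgroup G} (ht : Outer z Q t) (S : TData z Q t w h K W)
    (e : K ≃* alternatingGroup (Fin 5)) (hrK : r ∈ K) (or3 : orderOf r = 3) (hc : Nat.card (Cz r) = 12 * orderOf r)
    (hkK : k ∈ K) (kk : k * k = 1) (kr : k * r * k = r⁻¹) {u : G} (hu : u ∈ Cz r) (ku : k * u * k = u⁻¹) :
    u * u ∈ zpowers r := by
  classical
  have hz1 := H.data.frame.x2.ne
  have hWsq : ∀ v ∈ W, v * v = 1 := fun v hv => S.tri.props.sq _ (S.Wle hv)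
  have hodd : Odd (orderOf r) := by rw [or3]; decide
  set L := Cz r with hL
  have hWL : W ≤ L := fun v hv => mem_Cz.2 (S.commute_W hz1 hv hrK)
  have hrL : zpowers r ≤ L := zpowers_le.2 (mem_Cz.2 (Commute.refl r))
  set Z := (zpowers r).subgroupOf L with hZ
  haveI hZn : Z.Normal := ⟨fun n hn g => by
    obtain ⟨j, hj⟩ := mem_zpowers_iff.1 (mem_subgroupOf.1 hn)
    have : g * n * g⁻¹ = n := Subtype.ext (mul_inv_eq_iff_eq_mul.2 (hj ▸ ((mem_Cz.1 g.2).zpow_right j)).eq)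
    rwa [this]⟩
  let π := QuotientGroup.mk' Z
  have hπ : ∀ g : L, π g = 1 ↔ (g : G) ∈ zpowers r := fun g => by
    rw [QuotientGroup.mk'_apply, QuotientGroup.eq_one_iff, hZ, mem_subgroupOf]
  have hinj : ∀ v : L, (v : G) ∈ W → π v = 1 → v = 1 := fun v hv hv1 =>
    Subtype.ext (S.disj _ (zpowers_le.2 hrK ((hπ v).1 hv1)) hv)
  set V := (W.subgroupOf L).map π with hV
  have hV4 : Nat.card V = 4 := by
    rw [hV, ← S.card_W, ← Nat.card_congr (subgroupOfEquivOfLe hWL).toEquiv]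
    refine (Nat.card_congr (Equiv.ofBijective
      (fun v : W.subgroupOf L => (⟨π v, v, v.2, rfl⟩ : (W.subgroupOf L).map π)) ⟨fun v v' he => ?_, ?_⟩)).symm
    · have h1 : π ((v : L) * (v' : L)⁻¹) = 1 := by
        rw [map_mul, map_inv, show π (v : L) = π (v' : L) from congrArg Subtype.val he, mul_inv_cancel]
      exact Subtype.ext (mul_inv_eq_one.1 (hinj _ (mul_mem (mem_subgroupOf.1 v.2)
        (inv_mem (mem_subgroupOf.1 v'.2))) h1))
    · rintro ⟨_, v, hv, rfl⟩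
      exact ⟨⟨v, hv⟩, rfl⟩
  have hq : Nat.card (L ⧸ Z) = 12 := by
    have := card_eq_card_quotient_mul_card_subgroup Z
    rw [hc, hZ, Nat.card_congr (subgroupOfEquivOfLe hrL).toEquiv, Nat.card_zpowers, or3] at this
    show Nat.card (L ⧸ (zpowers r).subgroupOf L) = 12
    omega
  have hVi : V.index = 3 := by
    have := V.card_mul_index
    rw [hV4, hq] at this
    omega
  have hVsq : ∀ v ∈ V, v * v = 1 := by
    rintro _ ⟨v, hv, rfl⟩
    rw [← map_mul, show v * v = 1 from Subtype.ext (hWsq _ (mem_subgroupOf.1 hv)), map_one]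
  have hVcent : ∀ v ∈ V, v ≠ 1 → ∀ y, Commute y v → y ∈ V := by
    rintro _ ⟨v, hv, rfl⟩ hv1 y hy
    obtain ⟨g, rfl⟩ := QuotientGroup.mk'_surjective Z y
    have hvW := mem_subgroupOf.1 hv
    have hvG : (v : G) ≠ 1 := fun h' => hv1 (by rw [show v = 1 from Subtype.ext h', map_one])
    have h1 : π (g * v * g⁻¹ * v⁻¹) = 1 := by
      rw [map_mul, map_mul, map_mul, map_inv, map_inv]
      rw [show π g * π v = π v * π g from hy.eq, mul_inv_cancel_right, mul_inv_cancel]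
    have h2 := (hπ _).1 h1
    set δ : G := ((g * v * g⁻¹ * v⁻¹ : L) : G) with hδ
    have hgv : (g : G) * v * (g : G)⁻¹ = δ * v := by simp [hδ]
    have hδv : Commute δ (v : G) := by
      obtain ⟨j, hj⟩ := mem_zpowers_iff.1 h2
      rw [← hj]
      exact (S.commute_W hz1 hvW hrK).symm.zpow_left j
    have hδ1 : δ = 1 := Iso.one_of_sq hodd h2 (by
      have h3 : δ * v * (δ * v) = 1 := by
        rw [← hgv, show (g : G) * v * (g : G)⁻¹ * (g * v * (g : G)⁻¹) = g * (v * v) * (g : G)⁻¹ by group, hWsq _ hvW]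
        group
      rwa [show δ * v * (δ * v) = δ * (v * δ) * v by group, ← hδv.eq,
        show δ * (δ * v) * v = δ * δ * ((v : G) * v) by group, hWsq _ hvW, mul_one] at h3)
    rw [hδ1, one_mul] at hgv
    obtain ⟨-, hMdec⟩ := H.cent_in_X S e hrK (Or.inl or3)
    obtain ⟨k', hk', v', hv', hgk⟩ := hMdec _ (H.cent_W S e hrK (Or.inl or3) hvW hvG g.2 (mul_inv_eq_iff_eq_mul.1 hgv))
    refine ⟨⟨v', hWL hv'⟩, mem_subgroupOf.2 hv', ?_⟩
    refine (QuotientGroup.eq.2 (mem_subgroupOf.2 ?_) : (QuotientGroup.mk (⟨v', hWL hv'⟩ : L) : L ⧸ Z) = QuotientGroup.mk g)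
    show v'⁻¹ * (g : G) ∈ zpowers r
    rw [hgk, ((S.commute_W hz1 hv' (zpowers_le.2 hrK hk')).symm).eq, inv_mul_cancel_left]
    exact hk'
  haveI hVn : V.Normal := by
    rcases four_cases hV4 hVsq (by rw [hVi]; decide) hVcent with htop | ⟨-, hn⟩ | ⟨⟨e'⟩⟩
    · rw [htop, index_top] at hVi
      omega
    · exact hn
    · have := (Nat.card_congr e'.toEquiv).symm.trans hq
      rw [sixty] at this
      omega
  set uu : L := ⟨u, hu⟩ with huu
  set tt : L := ⟨t, hWL S.tW⟩ with htt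
  have htV : π tt ∈ V := ⟨tt, mem_subgroupOf.2 S.tW, rfl⟩
  have htne : π tt ≠ 1 := fun h' => by
    have o := H.ot ht
    rw [show t = 1 from congrArg Subtype.val (hinj tt S.tW h'), orderOf_one] at o
    omega
  obtain ⟨v, hv, hvu⟩ := hVn.conj_mem _ htV (π uu)
  have hvW := mem_subgroupOf.1 hv
  have hz' : (v : G)⁻¹ * (u * t * u⁻¹) ∈ zpowers r := by
    refine (hπ (v⁻¹ * (uu * tt * uu⁻¹))).1 ?_
    rw [map_mul, map_mul, map_mul, map_inv, map_inv, hvu, inv_mul_cancel]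
  obtain ⟨j, hj⟩ := mem_zpowers_iff.1 hz'
  have hj1 : u * t * u⁻¹ = (v : G) * r ^ j := by rw [hj, mul_inv_cancel_left]
  have hki : k⁻¹ = k := inv_eq_of_mul_eq_one_right kk
  have hkW : ∀ y ∈ W, k * y * k = y := fun y hy => by
    rw [← (S.commute_W hz1 hy hkK).eq, mul_assoc, kk, mul_one]
  have hj2 : u⁻¹ * t * u = (v : G) * r ^ (-j) := by
    have := congrArg (MulAut.conj k) hj1
    simp only [map_mul, map_inv, MulAut.conj_apply, hki] at this
    rwa [hkW t S.tW, hkW _ hvW, Iso.inv_conj kk kr, ku, inv_inv] at this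
  have hsame : π uu⁻¹ * π tt * π uu = π v := by
    rw [← map_mul, ← map_mul, ← mul_inv_eq_one, ← map_inv, ← map_mul, hπ]
    show u⁻¹ * t * u * (v : G)⁻¹ ∈ zpowers r
    rw [hj2, show (v : G) * r ^ (-j) = r ^ (-j) * v from ((S.commute_W hz1 hvW hrK).zpow_right _).eq,
      mul_inv_cancel_right]
    exact zpow_mem_zpowers r _
  have hcomm : Commute (π uu * π uu) (π tt) := by
    refine mul_inv_eq_iff_eq_mul.1 ?_
    rw [show π uu * π uu * π tt * (π uu * π uu)⁻¹ = π uu * (π uu * π tt * (π uu)⁻¹) * (π uu)⁻¹ by group,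
      ← hvu, ← hsame, map_inv]
    group
  have h2 : π uu * π uu ∈ V := hVcent _ htV htne _ hcomm
  have h3 : π uu ^ 3 ∈ V := hVi ▸ V.pow_index_mem (π uu)
  have h4 : π uu ∈ V := by
    have := mul_mem h3 (inv_mem h2)
    rwa [show π uu ^ 3 * (π uu * π uu)⁻¹ = π uu by group] at this
  refine (hπ (uu * uu)).1 ?_
  rw [map_mul]
  exact hVsq _ h4

/-- An involution conjugate to `z` inverting an element of order three of `K` lies in `K`. -/
theorem mem_K_of_invert {t r j w h : G} {K W : Subgroup G} (ht : Outer z Q t) (S : TData z Q t w h K W)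
    (e : K ≃* alternatingGroup (Fin 5)) (hrK : r ∈ K) (or3 : orderOf r = 3) (hj : IsConj z j)
    (hjr : j * r * j = r⁻¹) : j ∈ K := by
  classical
  have jj : j * j = 1 := Cfsg.Lib.InvolCalc.sq_of_order_two (order_two_of_conj H.oz hj)
  have hodd : Odd (orderOf r) := by rw [or3]; decide
  set rr : K := ⟨r, hrK⟩ with hrr
  have hr3 : r ^ 3 = 1 := or3 ▸ pow_orderOf_eq_one r
  have hr1 : r ≠ 1 := fun h' => by rw [h', orderOf_one] at or3; omega
  obtain ⟨k₀, hk₀, hk₀1, hk₀r⟩ := Iso.invert_three (e rr : Perm (Fin 5))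
    (congrArg Subtype.val (show (e rr) ^ 3 = 1 by
      rw [← map_pow, show rr ^ 3 = 1 from Subtype.ext hr3, map_one]))
    (fun h' => hr1 (congrArg Subtype.val ((MulEquiv.map_eq_one_iff e).1 (Subtype.ext h'))))
  obtain ⟨k₁, hk₁, hk₁s⟩ := Iso.alt_of_invList hk₀
  obtain ⟨⟨k, hkK⟩, rfl⟩ := e.surjective k₁
  have kk : k * k = 1 := congrArg Subtype.val (e.injective (show e (⟨k, hkK⟩ * ⟨k, hkK⟩) = e 1 by
    rw [map_mul, map_one]; exact hk₁s))
  have k1 : k ≠ 1 := fun h' => hk₀1 (by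
    rw [← hk₁, show (⟨k, hkK⟩ : K) = 1 from Subtype.ext h', map_one]; rfl)
  have kr : k * r * k = r⁻¹ := congrArg Subtype.val (e.injective (show e (⟨k, hkK⟩ * rr * ⟨k, hkK⟩) = e rr⁻¹ by
    rw [map_mul, map_mul, map_inv]
    refine Subtype.ext ?_
    simp only [Subgroup.coe_mul, InvMemClass.coe_inv, hk₁]
    exact hk₀r))
  have hki : k⁻¹ = k := inv_eq_of_mul_eq_one_right kk
  set u := j * k with hu_def
  have hju : j = u * k := by rw [hu_def, mul_assoc, kk, mul_one]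
  have huC : u ∈ Cz r := mem_Cz.2 (mul_inv_eq_iff_eq_mul.1 (by
    rw [hu_def, mul_inv_rev, hki, inv_eq_of_mul_eq_one_right jj,
      show j * k * r * (k * j) = j * (k * r * k) * j by group, kr,
      show r⁻¹ = r ^ (-1 : ℤ) by simp, Iso.inv_conj jj hjr]
    simp))
  have ku : k * u * k = u⁻¹ := by
    rw [hu_def, mul_inv_rev, hki, inv_eq_of_mul_eq_one_right jj,
      show k * (j * k) * k = k * j * (k * k) by group, kk, mul_one]
  have hxt := S.le hrK
  obtain ⟨hfus, hsh⟩ := H.cent_shape ht hxt (Or.inl or3)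
  have hsq : u * u ∈ zpowers r := by
    rcases hsh with hc | ⟨ψ, hψ, hker⟩
    · exact H.small_sq ht S e hrK or3 hc hkK kk kr huC ku
    · have h1 := H.act_trivial ht S hrK hodd ψ hψ hker hkK kk k1 kr ⟨u, huC⟩
      have h2 : (⟨k * u * k, Iso.conj_mem_Cz kk kr huC⟩ : Cz r) = (⟨u, huC⟩ : Cz r)⁻¹ := Subtype.ext ku
      rw [h2, map_inv, inv_eq_iff_mul_eq_one, ← map_mul] at h1
      have := MonoidHom.mem_ker.2 h1
      rw [hker, mem_subgroupOf] at this
      exact this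
  obtain ⟨i, hi⟩ := mem_zpowers_iff.1 hsq
  have hcu : Commute u (r ^ i) := (mem_Cz.1 huC).zpow_right i
  set l := u * r ^ i with hl_def
  have hr3i : ∀ n : ℤ, r ^ (3 * n) = 1 := fun n => by
    rw [zpow_mul, show (3 : ℤ) = ((3 : ℕ) : ℤ) from rfl, zpow_natCast, hr3, one_zpow]
  have ll : l * l = 1 := by
    rw [hl_def, show u * r ^ i * (u * r ^ i) = u * (r ^ i * u) * r ^ i by group, ← hcu.eq,
      show u * (u * r ^ i) * r ^ i = u * u * (r ^ i * r ^ i) by group, ← hi, ← zpow_add, ← zpow_add,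
      show i + (i + i) = 3 * i by ring, hr3i]
  have hlr : Commute l r := (mem_Cz.1 huC).mul_left ((Commute.refl r).zpow_left i)
  have hkl : Commute k l := by
    have h1 : k * l * k = l := by
      rw [hl_def, show k * (u * r ^ i) * k = k * u * (k * k) * r ^ i * k by rw [kk]; group,
        show k * u * (k * k) * r ^ i * k = (k * u * k) * (k * r ^ i * k) by group, ku, Iso.inv_conj kk kr,
        zpow_neg, ← mul_inv_rev, ← hcu.eq]
      exact inv_eq_of_mul_eq_one_right ll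
    show k * l = l * k
    calc k * l = k * l * (k * k) := by rw [kk, mul_one]
      _ = l * k := by rw [← mul_assoc, h1]
  by_cases hl1 : l = 1
  · rw [hju, eq_inv_of_mul_eq_one_left (show u * r ^ i = 1 from hl1)]
    exact mul_mem (inv_mem (zpow_mem hrK i)) hkK
  exfalso
  have hlt : IsConj t l := hfus l (mem_Cz.2 hlr) (Cfsg.Lib.InvolCalc.order_two_of_mul_self ll hl1)
  obtain ⟨g, hg⟩ := H.mul_outer ht (H.K_conj S hkK kk k1) hlt hkl
  refine H.not_conj_of_outer hg (hj.trans (isConj_iff.2 ⟨r ^ (-i), ?_⟩))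
  -- `j` is conjugate to `k * l` by a power of `r`
  have hjl : j = r ^ (-i) * (l * k) := by
    rw [hju, hl_def, hcu.eq, zpow_neg, ← mul_assoc, ← mul_assoc, inv_mul_cancel, one_mul]
  have hkri : k * r ^ i = r ^ (-i) * k := by
    calc k * r ^ i = k * r ^ i * (k * k) := by rw [kk, mul_one]
      _ = r ^ (-i) * k := by rw [← mul_assoc, Iso.inv_conj kk kr]
  rw [hjl, hkl.eq, ← mul_assoc (r ^ (-i)), ← zpow_add, show (r ^ (-i))⁻¹ = r ^ i by rw [zpow_neg, inv_inv],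
    mul_assoc, mul_assoc l, hkri, ← mul_assoc l, (hlr.zpow_right (-i)).eq, ← mul_assoc, ← mul_assoc, ← zpow_add,
    show -i + -i + -i = 3 * (-i) by ring, hr3i, one_mul]

end Hyp

end Cfsg.Lib.HallJankoType
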