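import Cfsg.Agent.SuzPres.JTwoIso

/-!
Transferring identities and the isomorphism from five involutions satisfying the Hall-Janko relators.
-/

set_option autoImplicit false
set_option maxRecDepth 8000
set_option Elab.async false

namespace Cfsg.Lib.HallJankoType.Iso

open Cfsg.Lib.CosetCert Cfsg.Lib.PermCert
open Cfsg.Lib.SuzPres (rpt wval_rpt wval_append wval_cons wval_nil)
open Cfsg.Lib.SuzPres.JTwo (fiveWord linePerm lineGens line_valid' five_bound linePerm_mem closure_line)

variable {G : Type*} [Group G]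

/-- The relators on four letters hold. -/
def Four (f : ℕ → G) : Prop := ∀ r ∈ Cfsg.Lib.SuzPres.L1.rels, wval f r = 1

theorem low_mem : ((Cfsg.Lib.SuzPres.L0.rels.all fun r => decide (r.map (2 + ·) ∈ Cfsg.Lib.SuzPres.L1.rels)) &&
    (Cfsg.Lib.SuzPres.L1.rels.all fun r => r.all fun l => decide (l < 4)) &&
    (List.range 4).all fun l => decide ([l, l] ∈ Cfsg.Lib.SuzPres.L1.rels)) = true := by decide +kernel

theorem Four.sq {f : ℕ → G} (hf : Four f) {l : ℕ} (hl : l < 4) : f l * f l = 1 := by
  have h := List.all_eq_true.1 (Bool.and_eq_true_iff.1 low_mem).2 l (List.mem_range.2 hl)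
  simpa [wval] using hf _ (of_decide_eq_true h)

theorem four_bound {f : ℕ → G} (hf : Four f) :
    Finite (Subgroup.closure (f '' Set.Iio 4)) ∧ Nat.card (Subgroup.closure (f '' Set.Iio 4)) ≤ 2160 := by
  obtain ⟨⟨hlow, hhigh⟩, -⟩ := Bool.and_eq_true_iff.1 low_mem |>.imp_left Bool.and_eq_true_iff.1
  have h4 : ∀ r ∈ Cfsg.Lib.SuzPres.L1.rels, ∀ l ∈ r, l < 4 := fun r hr l hl =>
    of_decide_eq_true (List.all_eq_true.1 (List.all_eq_true.1 hhigh r hr) l hl)
  set B := Subgroup.closure ((fun n => f (2 + n)) '' Set.Iio 2) with hB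
  have hR : ∀ r ∈ Cfsg.Lib.SuzPres.L0.rels, wval (fun n => f (2 + n)) r = 1 := fun r hr => by
    have := hf _ (of_decide_eq_true (List.all_eq_true.1 hlow r hr))
    rwa [wval, List.map_map] at this
  have h0 := card_le (K := (⊥ : Subgroup G)) (L := B) Cfsg.Lib.SuzPres.L0.cert (fun n => f (2 + n))
    Cfsg.Lib.SuzPres.L0.valid (fun l hl => hf.sq (by
      have : l < 2 := hl
      omega)) hR
    (fun r hr l hl => hf.sq (by
      have h2 := h4 _ (of_decide_eq_true (List.all_eq_true.1 hlow r hr)) (2 + l) (List.mem_map.2 ⟨l, hl, rfl⟩)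
      exact h2)) (by simp [Cfsg.Lib.SuzPres.L0.cert]) le_rfl
  rw [Subgroup.card_bot, Cfsg.Lib.SuzPres.L0.fins_length, mul_one] at h0
  haveI := h0.1
  obtain ⟨f4, c4⟩ := card_le (K := B) (L := Subgroup.closure (f '' Set.Iio 4)) Cfsg.Lib.SuzPres.L1.cert f
    Cfsg.Lib.SuzPres.L1.valid (fun l hl => hf.sq hl) hf (fun r hr l hl => hf.sq (h4 r hr l hl)) (by
      intro s hs
      simp only [Cfsg.Lib.SuzPres.L1.cert, List.mem_cons, List.mem_nil_iff, or_false] at hs
      rcases hs with rfl | rfl
      · exact Subgroup.subset_closure ⟨0, by norm_num, rfl⟩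
      · exact Subgroup.subset_closure ⟨1, by norm_num, rfl⟩) le_rfl
  rw [Cfsg.Lib.SuzPres.L1.fins_length] at c4
  exact ⟨f4, c4.trans (by have := h0.2; omega)⟩

theorem four_line : Four linePerm := by
  intro r hr
  have h := List.all_eq_true.1 Cfsg.Lib.SuzPres.JTwo.line_rels r (Cfsg.Lib.SuzPres.rels_mem1 r hr)
  have hlow := (Bool.and_eq_true_iff.1 Cfsg.Lib.SuzPres.JTwo.low_rels).1
  have h5 := List.all_eq_true.1 hlow r (List.mem_append_left _ hr)
  rw [h5, Bool.not_true, Bool.false_or] at h
  have h1 := isId_sound (n := 315) (fun g hg => by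
    obtain ⟨l, hl, rfl⟩ := List.mem_map.1 hg
    exact line_valid' (of_decide_eq_true (List.all_eq_true.1 h5 l hl))) h
  rwa [wperm, List.map_map] at h1

theorem line_four_card : 2160 ≤ Nat.card (Subgroup.closure (linePerm '' Set.Iio 4)) := by
  have hlow := List.all_eq_true.1 (Bool.and_eq_true_iff.1 Cfsg.Lib.SuzPres.JTwo.low_rels).1
  have hline : ∀ w ∈ Cfsg.Lib.SuzPres.words, fiveWord w = true → wval linePerm w = 1 := fun w hw hs => by
    have h := List.all_eq_true.1 Cfsg.Lib.SuzPres.JTwo.line_rels w hw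
    rw [hs, Bool.not_true, Bool.false_or] at h
    have h1 := isId_sound (n := 315) (fun g hg => by
      obtain ⟨l, hl, rfl⟩ := List.mem_map.1 hg
      exact line_valid' (of_decide_eq_true (List.all_eq_true.1 hs l hl))) h
    rwa [wperm, List.map_map] at h1
  have h := Cfsg.Lib.SuzPres.JTwo.five_step linePerm hline Cfsg.Lib.SuzPres.L2.valid Cfsg.Lib.SuzPres.rels_mem2
    (fun r hr => hlow r (List.mem_append_right _ hr)) (by decide)
    (K := Subgroup.closure (linePerm '' Set.Iio 4)) (fun s hs => Subgroup.subset_closure ⟨s, (by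
      simp only [Cfsg.Lib.SuzPres.L2.cert, List.mem_cons, List.mem_nil_iff, or_false] at hs ⊢
      show s < _
      omega), rfl⟩)
  have hn : Cfsg.Lib.SuzPres.L2.cert.ng = 5 := rfl
  rw [Cfsg.Lib.SuzPres.L2.fins_length, hn, closure_line,
    Cfsg.Lib.J2.card_lineGroup Cfsg.Lib.J2.frameFaithful] at h
  omega

/-- An identity among the first four involutions on the lines holds for any four involutions with the relators. -/
theorem transfer [Finite G] {f : ℕ → G} (hf : Four f) {w : List ℕ}
    (hw : (w.all fun l => decide (l < 4)) = true)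
    (hid : isId 315 (w.map fun l => lineGens.getD l (0, 0)) = true) : wval f w = 1 := by
  classical
  have h4 : ∀ l ∈ w, l < 4 := fun l hl => of_decide_eq_true (List.all_eq_true.1 hw l hl)
  have hline : wval linePerm w = 1 := by
    have h1 := isId_sound (n := 315) (fun g hg => by
      obtain ⟨l, hl, rfl⟩ := List.mem_map.1 hg
      exact line_valid' (by have := h4 l hl; omega)) hid
    rwa [wperm, List.map_map] at h1
  let pf : ℕ → Equiv.Perm (Fin 315) × G := fun l => (linePerm l, f l)
  have hfst : ∀ v, (wval pf v).1 = wval linePerm v := fun v => by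
    show MonoidHom.fst _ _ (wval pf v) = _
    rw [wval, map_list_prod, List.map_map]; rfl
  have hsnd : ∀ v, (wval pf v).2 = wval f v := fun v => by
    show MonoidHom.snd _ _ (wval pf v) = _
    rw [wval, map_list_prod, List.map_map]; rfl
  have hP : Four pf := fun r hr => Prod.ext ((hfst r).trans (four_line r hr)) ((hsnd r).trans (hf r hr))
  obtain ⟨-, hle⟩ := four_bound hP
  set X := Subgroup.closure (pf '' Set.Iio 4) with hX
  set L := Subgroup.closure (linePerm '' Set.Iio 4) with hL
  have hmap : X.map (MonoidHom.fst (Equiv.Perm (Fin 315)) G) = L := by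
    rw [hX, hL, MonoidHom.map_closure, ← Set.image_comp]; rfl
  let π : X → L := fun x => ⟨(x : Equiv.Perm (Fin 315) × G).1, hmap ▸ ⟨_, x.2, rfl⟩⟩
  have hsurj : Function.Surjective π := by
    rintro ⟨y, hy⟩
    rw [← hmap] at hy
    obtain ⟨x, hx, rfl⟩ := hy
    exact ⟨⟨x, hx⟩, rfl⟩
  have hbij := (Nat.bijective_iff_surjective_and_card π).2
    ⟨hsurj, le_antisymm (hle.trans line_four_card) (Nat.card_le_card_of_surjective _ hsurj)⟩
  have hmem : wval pf w ∈ X := list_prod_mem fun x hx => by
    obtain ⟨l, hl, rfl⟩ := List.mem_map.1 hx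
    exact Subgroup.subset_closure ⟨l, h4 l hl, rfl⟩
  have h : (⟨_, hmem⟩ : X) = 1 := hbij.1 (Subtype.ext ((hfst w).trans hline))
  rw [← hsnd, show wval pf w = 1 from congrArg Subtype.val h]
  rfl

/-- Five involutions with the relators in a group of order `604800` give the Hall-Janko group. -/
theorem iso_of_five [Finite G] (hG : Nat.card G = 604800) {f : ℕ → G}
    (hf : ∀ w ∈ Cfsg.Lib.SuzPres.words, fiveWord w = true → wval f w = 1) (h0 : f 0 ≠ 1) :
    Cfsg.Spor.IsoJ2 G := by
  classical
  let pf : ℕ → Equiv.Perm (Fin 315) × G := fun l => (linePerm l, f l)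
  have hP : ∀ w ∈ Cfsg.Lib.SuzPres.words, fiveWord w = true → wval pf w = 1 := fun w hw hs => by
    refine Prod.ext ?_ ?_
    · show MonoidHom.fst _ _ (wval pf w) = 1
      rw [wval, map_list_prod, List.map_map]
      have h := List.all_eq_true.1 Cfsg.Lib.SuzPres.JTwo.line_rels w hw
      rw [hs, Bool.not_true, Bool.false_or] at h
      have h1 := isId_sound (n := 315) (fun g hg => by
        obtain ⟨l, hl, rfl⟩ := List.mem_map.1 hg
        exact line_valid' (of_decide_eq_true (List.all_eq_true.1 hs l hl))) h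
      rw [wperm, List.map_map] at h1
      exact h1
    · show MonoidHom.snd _ _ (wval pf w) = 1
      rw [wval, map_list_prod, List.map_map]
      exact hf w hw hs
  obtain ⟨-, hle⟩ := five_bound pf hP
  set X := Subgroup.closure (pf '' Set.Iio 5) with hX
  have hmap : X.map (MonoidHom.fst (Equiv.Perm (Fin 315)) G) = Cfsg.Lib.J2.lineGroup := by
    rw [hX, MonoidHom.map_closure, ← Set.image_comp, ← closure_line]; rfl
  let π : X →* Cfsg.Lib.J2.lineGroup :=
    ((MonoidHom.fst (Equiv.Perm (Fin 315)) G).comp X.subtype).codRestrict _ fun x => hmap ▸ ⟨_, x.2, rfl⟩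
  have hsurj : Function.Surjective π := by
    rintro ⟨y, hy⟩
    rw [← hmap] at hy
    obtain ⟨x, hx, rfl⟩ := hy
    exact ⟨⟨x, hx⟩, rfl⟩
  have hc := Cfsg.Lib.J2.card_lineGroup Cfsg.Lib.J2.frameFaithful
  have hbij : Function.Bijective π := (Nat.bijective_iff_surjective_and_card _).2
    ⟨hsurj, le_antisymm (hle.trans hc.ge) (Nat.card_le_card_of_surjective _ hsurj)⟩
  let e := MulEquiv.ofBijective π hbij
  let φ : Cfsg.Lib.J2.lineGroup →* G := (MonoidHom.snd _ _).comp (X.subtype.comp e.symm.toMonoidHom)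
  haveI : IsSimpleGroup Cfsg.Lib.J2.lineGroup := Cfsg.Lib.J2.lineGroup_simple Cfsg.Lib.J2.frameFaithful
  have hinj : Function.Injective φ := by
    rw [← MonoidHom.ker_eq_bot_iff]
    refine ((MonoidHom.normal_ker φ).eq_bot_or_eq_top).resolve_right fun htop => h0 ?_
    have hx : pf 0 ∈ X := Subgroup.subset_closure ⟨0, by norm_num, rfl⟩
    have h1 : φ (π ⟨_, hx⟩) = 1 := MonoidHom.mem_ker.1 (htop ▸ Subgroup.mem_top _)
    have h2 : e.symm (π ⟨_, hx⟩) = ⟨_, hx⟩ := e.symm_apply_apply _
    exact (congrArg (fun x : X => (x : Equiv.Perm (Fin 315) × G).2) h2).symm.trans h1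
  have hbij' : Function.Bijective φ := (Nat.bijective_iff_injective_and_card _).2 ⟨hinj, by rw [hc, hG]⟩
  exact ⟨(MulEquiv.ofBijective φ hbij').symm.trans Cfsg.Lib.J2.j2Equiv.symm⟩

/-- The element of order three. -/
def hWord : List ℕ := rpt 5 [1, 2, 3, 2, 3]

/-- The explicit relators on five letters. -/
def fiveList : List (List ℕ) :=
  [[], [0, 0], [1, 1], [2, 2], [3, 3], [4, 4], rpt 5 [0, 1], rpt 2 [0, 2], rpt 2 [0, 3], rpt 2 [0, 4],
    rpt 3 [1, 2], rpt 2 [1, 3], rpt 2 [1, 4], rpt 8 [2, 3], rpt 2 [2, 4], rpt 3 [3, 4], 0 :: rpt 4 [2, 3],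
    rpt 3 (hWord ++ [4])]

theorem five_words : (Cfsg.Lib.SuzPres.words.all fun w => !fiveWord w ||
    decide (w ∈ fiveList) || decide (w.reverse ∈ fiveList)) = true := by decide +kernel

theorem five_lt : (fiveList.all fiveWord) = true := by decide +kernel

theorem wval_reverse {f : ℕ → G} : ∀ {w : List ℕ}, (∀ l ∈ w, f l * f l = 1) → wval f w.reverse = (wval f w)⁻¹
  | [], _ => by simp [wval]
  | x :: w, h => by
    rw [List.reverse_cons, wval_append, wval_reverse (fun l hl => h l (List.mem_cons_of_mem _ hl)), wval_cons,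
      wval_cons, wval_nil, mul_one, mul_inv_rev, inv_eq_of_mul_eq_one_right (h x List.mem_cons_self)]

theorem five_of_list {f : ℕ → G} (hf : ∀ w ∈ fiveList, wval f w = 1) :
    ∀ w ∈ Cfsg.Lib.SuzPres.words, fiveWord w = true → wval f w = 1 := fun w hw hs => by
  have hsq : ∀ l, l < 5 → f l * f l = 1 := fun l hl => by
    have : [l, l] ∈ fiveList := by interval_cases l <;> simp [fiveList]
    simpa [wval] using hf _ this
  have h := List.all_eq_true.1 five_words w hw
  rw [hs, Bool.not_true, Bool.false_or, Bool.or_eq_true] at h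
  rcases h with h | h
  · exact hf w (of_decide_eq_true h)
  · have h2 := hf _ (of_decide_eq_true h)
    rw [wval_reverse fun l hl => hsq l (of_decide_eq_true (List.all_eq_true.1 hs l hl)), inv_eq_one] at h2
    exact h2

/-- A conjugate of the first letter. -/
def jWord : List ℕ := [0, 3, 2, 1, 0, 1, 2, 3, 0]

theorem j_inverts : isId 315 ((rpt 2 (jWord ++ [1, 2]) ++ hWord.reverse).map fun l => lineGens.getD l (0, 0)) = true := by
  decide +kernel

/-- The first letter as a product of two conjugates of `jWord ++ k` or its inverse. -/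
def kill (u₁ : List ℕ) (s₁ : Bool) (u₂ : List ℕ) (s₂ : Bool) (k : List ℕ) : List ℕ :=
  u₁ ++ (if s₁ then jWord ++ k else (jWord ++ k).reverse) ++ u₁.reverse ++
    (u₂ ++ (if s₂ then jWord ++ k else (jWord ++ k).reverse) ++ u₂.reverse) ++ [0]

theorem kill_ok :
    isId 315 ((kill [] false [3, 2, 3] true [1]).map fun l => lineGens.getD l (0, 0)) = true ∧
    isId 315 ((kill [1, 2, 3] false [3, 2, 1, 3, 2, 3] true [2]).map fun l => lineGens.getD l (0, 0)) = true ∧
    isId 315 ((kill [1, 0, 2, 1, 0] true [1, 0, 2, 1, 3, 2, 3] true [1, 2, 1]).map fun l => lineGens.getD l (0, 0)) = true := by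
  decide +kernel

theorem h_ids : ([rpt 3 hWord, hWord ++ [0] ++ hWord.reverse ++ [0], hWord ++ [1] ++ hWord.reverse ++ [1],
    hWord ++ [2] ++ hWord.reverse ++ [2]].all fun w => isId 315 (w.map fun l => lineGens.getD l (0, 0))) = true := by
  decide +kernel

end Cfsg.Lib.HallJankoType.Iso
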