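import Cfsg.Agent.LocalThree.HallJankoType.FiveFull
import Cfsg.Agent.LocalThree.HallJankoType.Iso.Local
import Cfsg.Agent.LocalThree.HallJankoType.Iso.Words

/-!
A group of Hall-Janko type contains five involutions satisfying the relators and so is the Hall-Janko group.
-/

set_option autoImplicit false
set_option maxRecDepth 8000
set_option maxHeartbeats 1600000
set_option linter.unusedSectionVars false

namespace Cfsg.Lib.HallJankoType

open Subgroup Equiv

universe u

variable {G : Type u} [Group G] [Finite G] {z : G} {Q : Subgroup G} {a : Fin 5 → G} {σ : Cz z →* Perm (Fin 5)}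

namespace Iso

open Cfsg.Lib.CosetCert Cfsg.Lib.SuzPres in
theorem four_base : (Cfsg.Lib.SuzPres.L1.rels.all fun w => decide (w ∈ fiveList.take 17) ||
    decide (w.reverse ∈ fiveList.take 17)) = true := by decide +kernel

theorem four_base_lt : ((fiveList.take 17).all fun w => w.all fun l => decide (l < 5)) = true := by decide +kernel

open Cfsg.Lib.CosetCert in
theorem four_of_base {f : ℕ → G} (hf : ∀ w ∈ fiveList.take 17, wval f w = 1) : Four f := by
  intro r hr
  have hsq : ∀ l, l < 5 → f l * f l = 1 := fun l hl => by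
    have : [l, l] ∈ fiveList.take 17 := by interval_cases l <;> simp [fiveList]
    simpa [wval] using hf _ this
  have h := List.all_eq_true.1 four_base r hr
  rw [Bool.or_eq_true] at h
  rcases h with h | h
  · exact hf r (of_decide_eq_true h)
  · have h1 := of_decide_eq_true h
    have h2 := hf _ h1
    rw [wval_reverse fun l hl => hsq l (of_decide_eq_true (List.all_eq_true.1
      (List.all_eq_true.1 four_base_lt _ h1) l (List.mem_reverse.2 hl))), inv_eq_one] at h2
    exact h2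

open Cfsg.Lib.CosetCert in
open Cfsg.Lib.SuzPres (wval_append wval_cons wval_nil) in
theorem kill_value {f : ℕ → G} (hsq : ∀ l, l < 4 → f l * f l = 1) {u₁ u₂ k : List ℕ} {s₁ s₂ : Bool}
    (hu₁ : ∀ l ∈ u₁, l < 4) (hu₂ : ∀ l ∈ u₂, l < 4) (hk : ∀ l ∈ jWord ++ k, l < 4)
    (h : wval f (jWord ++ k) = 1) (h2 : wval f (kill u₁ s₁ u₂ s₂ k) = 1) : f 0 = 1 := by
  have hs : ∀ s : Bool, wval f (if s then jWord ++ k else (jWord ++ k).reverse) = 1 := by
    intro s
    cases s
    · rw [if_neg (by simp), wval_reverse (fun l hl => hsq l (hk l hl)), h, inv_one]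
    · rw [if_pos rfl, h]
  rw [kill, wval_append, wval_append, wval_append, wval_append, wval_append, wval_append, hs, hs,
    wval_reverse (fun l hl => hsq l (hu₁ l hl)), wval_reverse (fun l hl => hsq l (hu₂ l hl)), mul_one, mul_one,
    mul_inv_cancel, mul_inv_cancel, one_mul, one_mul, wval_cons, wval_nil, mul_one] at h2
  exact h2

theorem jWord_shape : jWord = [0, 3, 2, 1] ++ [0] ++ ([0, 3, 2, 1] : List ℕ).reverse := by decide

end Iso

namespace Hyp

variable (H : Hyp z Q a σ)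
include H

theorem fix_point {g c : G} {i : Fin 5} (hg : g ∈ Cz z) (hci : Cls z c (a i)) (hc : Commute g c) :
    σ ⟨g, hg⟩ i = i := by
  have D := H.data
  have h1 := D.cls_conj hg hci
  rw [hc.eq, mul_inv_cancel_right] at h1
  exact (D.frame.unique hci (D.frame.cls_trans h1 (D.act ⟨g, hg⟩ i))).symm

theorem anti_cls {x y : G} {i j : Fin 5} (hx : Cls z x (a i)) (hy : Cls z y (a j)) (hij : i ≠ j) :
    y * x = z * (x * y) := by
  have D := H.data
  have hzi := (D.commQ (D.frame.mem i)).eq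
  have hzj := (D.commQ (D.frame.mem j)).eq
  have e := D.frame.anti i j hij
  rcases hx with rfl | rfl <;> rcases hy with rfl | rfl
  · exact e
  · rw [mul_assoc, e, show a i * (z * a j) = (a i * z) * a j by group, ← hzi, mul_assoc]
  · rw [show a j * (z * a i) = (a j * z) * a i by group, ← hzj, mul_assoc, e, mul_assoc z (a i)]
  · rw [show z * a j * (z * a i) = z * ((a j * z) * a i) by group, ← hzj, mul_assoc, e,
      show z * a i * (z * a j) = z * ((a i * z) * a j) by group, ← hzi, mul_assoc z (a i)]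

open Cfsg.Lib.CosetCert in
open Cfsg.Lib.SuzPres (rpt wval_rpt wval_append wval_cons wval_nil) in
/-- The main theorem. -/
theorem iso : Cfsg.Spor.IsoJ2 G := by
  classical
  have D := H.data
  have hz1 := D.frame.x2.ne
  have hzz := D.zz
  obtain ⟨t, ht⟩ := H.exists_outer
  have hG := (H.card_eq ht).1
  obtain ⟨w, h, K, W, S, ⟨e⟩⟩ := H.kshape ht
  have hzK := H.z_mem_K S
  -- a suitable isomorphism with `A₅`
  have hez : e ⟨z, hzK⟩ * e ⟨z, hzK⟩ = 1 := by
    rw [← map_mul, show (⟨z, hzK⟩ : K) * ⟨z, hzK⟩ = 1 from Subtype.ext hzz, map_one]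
  obtain ⟨ρ, hρs, hρ⟩ := perm_std (e ⟨z, hzK⟩ : Perm (Fin 5)) (Equiv.Perm.mem_alternatingGroup.1 (e ⟨z, hzK⟩).2)
    (congrArg Subtype.val hez) (fun h' => hz1 (congrArg Subtype.val
      ((MulEquiv.map_eq_one_iff e).1 (Subtype.ext h'))))
  obtain ⟨ψ, hψz⟩ : ∃ ψ : K ≃* alternatingGroup (Fin 5), (ψ ⟨z, hzK⟩ : Perm (Fin 5)) = tau1 :=
    ⟨e.trans (MulAut.conj ⟨ρ, Equiv.Perm.mem_alternatingGroup.2 hρs⟩), hρ⟩
  have hval : ∀ x y : K, (ψ x : Perm (Fin 5)) = ψ y → (x : G) = y := fun x y he =>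
    congrArg Subtype.val (ψ.injective (Subtype.ext he))
  obtain ⟨B, hBl, hAB5, hAB1, hBC3, hBC1⟩ := Iso.exists_b
  obtain ⟨Bq, hBq, hBq2⟩ := Iso.alt_of_invList hBl
  obtain ⟨Cq, hCq, hCq2⟩ := Iso.alt_of_invList (show tau2 ∈ invList by decide +kernel)
  obtain ⟨⟨b, hbK⟩, rfl⟩ := ψ.surjective Bq
  obtain ⟨⟨c, hcK⟩, rfl⟩ := ψ.surjective Cq
  have hbb : b * b = 1 := congrArg Subtype.val (ψ.injective (show ψ (⟨b, hbK⟩ * ⟨b, hbK⟩) = ψ 1 by
    rw [map_mul, map_one]; exact hBq2))
  have hcc : c * c = 1 := congrArg Subtype.val (ψ.injective (show ψ (⟨c, hcK⟩ * ⟨c, hcK⟩) = ψ 1 by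
    rw [map_mul, map_one]; exact hCq2))
  have hone : ∀ {x : G} (hx : x ∈ K), (ψ ⟨x, hx⟩ : Perm (Fin 5)) ≠ 1 → x ≠ 1 := fun hx h' hx1 => h' (by
    subst hx1
    rw [show (⟨1, hx⟩ : K) = 1 from rfl, map_one]; rfl)
  have hc1 : c ≠ 1 := hone hcK (by rw [hCq]; decide +kernel)
  have hcz : c ≠ z := fun h' => by
    have : tau2 = tau1 := by
      rw [← hCq, ← hψz]
      subst h'
      rfl
    exact absurd this (by decide +kernel)
  have hzc : Commute z c := show z * c = c * z from hval (⟨z, hzK⟩ * ⟨c, hcK⟩) (⟨c, hcK⟩ * ⟨z, hzK⟩) (by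
    rw [map_mul, map_mul]; simp only [Subgroup.coe_mul, hψz, hCq]; decide +kernel)
  have hzb5 : (z * b) ^ 5 = 1 := hval ((⟨z, hzK⟩ * ⟨b, hbK⟩) ^ 5) 1 (by
    rw [map_pow, map_mul, map_one, SubgroupClass.coe_pow, Subgroup.coe_mul, hψz, hBq]; exact hAB5)
  have hzb1 : z * b ≠ 1 := hone (mul_mem hzK hbK) (by
    rw [show (⟨z * b, mul_mem hzK hbK⟩ : K) = ⟨z, hzK⟩ * ⟨b, hbK⟩ from rfl, map_mul, Subgroup.coe_mul, hψz, hBq]
    exact hAB1)
  have hbc3 : (b * c) ^ 3 = 1 := hval ((⟨b, hbK⟩ * ⟨c, hcK⟩) ^ 3) 1 (by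
    rw [map_pow, map_mul, map_one, SubgroupClass.coe_pow, Subgroup.coe_mul, hBq, hCq]; exact hBC3)
  have hbc1 : b * c ≠ 1 := hone (mul_mem hbK hcK) (by
    rw [show (⟨b * c, mul_mem hbK hcK⟩ : K) = ⟨b, hbK⟩ * ⟨c, hcK⟩ from rfl, map_mul, Subgroup.coe_mul, hBq, hCq]
    exact hBC1)
  have hKt : ∀ x ∈ K, Commute x t := fun x hx => (S.commute_W hz1 S.tW hx).symm
  -- the point of `c`
  have hcC : c ∈ Cz z := mem_Cz.2 hzc.symm
  have hcQ := H.mem_Q_of_conj hcC (H.K_conj S hcK hcc hc1)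
  obtain ⟨i, hi⟩ : ∃ i, Cls z c (a i) := by
    refine (D.frame.pts c hcQ hcc).resolve_left fun h' => ?_
    rcases h' with h' | h'
    · exact hc1 h'
    · exact hcz (by rw [h', mul_one])
  -- the element of order five
  set f : G := z * b with hf
  have of : orderOf f = 5 := by
    haveI : Fact (Nat.Prime 5) := ⟨by norm_num⟩
    exact orderOf_eq_prime hzb5 hzb1
  have hfK : f ∈ K := mul_mem hzK hbK
  have hfinv : f⁻¹ = b * z := by
    rw [hf, mul_inv_rev, inv_eq_of_mul_eq_one_right hbb, inv_eq_of_mul_eq_one_right hzz]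
  have hzfz : z * f * z = f⁻¹ := by rw [hfinv, hf, ← mul_assoc, hzz, one_mul]
  have hft : f ∈ Cz t := S.le hfK
  have hodd : Odd (orderOf f) := by rw [of]; decide
  have h300 : Nat.card (Cz f) = 300 := by
    refine (H.five_cases of).resolve_left fun h50 => ?_
    have h20 := (H.cent_in_X S e hfK (Or.inr of)).1
    have := Subgroup.card_dvd_of_le (inf_le_left : Cz f ⊓ Cz t ≤ Cz f)
    rw [h50, h20, of] at this
    norm_num at this
  obtain ⟨-, hsh⟩ := H.cent_shape ht hft (Or.inr of)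
  obtain ⟨θ₀, hθ₀, hker⟩ := hsh.resolve_left (by rw [h300, of]; norm_num)
  obtain ⟨hlift, huniq⟩ := Iso.lifts θ₀ hθ₀ hker hodd hzz hzfz
    (H.act_trivial ht S hfK hodd θ₀ hθ₀ hker hzK hzz hz1 hzfz)
  -- `C(f) ∩ C(z)` is `A₅`
  set C0 : Subgroup (Cz f) := (Cz z).subgroupOf (Cz f) with hC0
  have hC0m : ∀ g : Cz f, g ∈ C0 ↔ Commute (g : G) z := fun g => by
    rw [hC0, mem_subgroupOf, mem_Cz]
  let θ' : C0 →* alternatingGroup (Fin 5) := θ₀.comp C0.subtype
  have hθ' : Function.Bijective θ' := by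
    refine ⟨(injective_iff_map_eq_one θ').2 fun g hg => Subtype.ext (huniq g hg ((hC0m _).1 g.2)), fun α => ?_⟩
    obtain ⟨g, hg, hgz⟩ := hlift α
    exact ⟨⟨g, (hC0m g).2 hgz⟩, hg⟩
  let θ := MulEquiv.ofBijective θ' hθ'
  haveI : IsSimpleGroup (alternatingGroup (Fin 5)) := alternatingGroup.isSimpleGroup_five
  haveI : IsSimpleGroup C0 := θ.isSimpleGroup
  let emb : C0 →* Cz z := ((Cz f).subtype.comp C0.subtype).codRestrict (Cz z) fun g => mem_Cz.2 ((hC0m _).1 g.2)
  set χ : C0 →* Perm (Fin 5) := σ.comp emb with hχ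
  have htf : t ∈ Cz f := mem_Cz.2 (hKt f hfK).symm
  have htz : Commute t z := (hKt z hzK).symm
  set T0 : C0 := ⟨⟨t, htf⟩, (hC0m _).2 htz⟩ with hT0
  have ot := H.ot ht
  have hT01 : T0 ≠ 1 := fun h' => by
    rw [show t = 1 from congrArg (fun g : C0 => ((g : Cz f) : G)) h', orderOf_one] at ot
    omega
  have hχinj : Function.Injective χ := by
    rw [← MonoidHom.ker_eq_bot_iff]
    refine ((MonoidHom.normal_ker χ).eq_bot_or_eq_top).resolve_right fun htop => ht.2.2 ?_
    have h1 : χ T0 = 1 := MonoidHom.mem_ker.1 (htop ▸ Subgroup.mem_top T0)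
    exact (D.ker _).1 h1
  have hlist : ∀ g : C0, g * g = 1 → χ g ∈ invList := fun g hg =>
    Iso.mem_invList (by rw [← map_mul, hg, map_one]) (D.sign _)
  have hT02 : T0 * T0 = 1 := Subtype.ext (Subtype.ext ht.2.1)
  -- the fourth involution
  obtain ⟨Dp, hDl, hD1, hDT, hDne⟩ := Iso.partner _ (Iso.mem_invList' (show θ T0 * θ T0 = 1 by
    rw [← map_mul, hT02, map_one])) (fun h' => hT01 ((MulEquiv.map_eq_one_iff θ).1 (Subtype.ext h')))
  obtain ⟨Dq, hDq, hDq2⟩ := Iso.alt_of_invList hDl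
  obtain ⟨D0, rfl⟩ := θ.surjective Dq
  have hD02 : D0 * D0 = 1 := θ.injective (by rw [map_mul, map_one]; exact hDq2)
  have hD01 : D0 ≠ 1 := fun h' => hD1 (by rw [← hDq, h', map_one]; rfl)
  have hD0T : D0 ≠ T0 := fun h' => hDne (by rw [← hDq, h'])
  have hDT3 : (D0 * T0) ^ 3 = 1 := θ.injective (Subtype.ext (by
    rw [map_pow, map_mul, map_one, SubgroupClass.coe_pow, Subgroup.coe_mul, hDq]; exact hDT))
  set d : G := ((D0 : Cz f) : G) with hd
  have hdd : d * d = 1 := congrArg (fun g : C0 => ((g : Cz f) : G)) hD02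
  have hdz : Commute d z := (hC0m _).1 D0.2
  have hdf : Commute d f := mem_Cz.1 (D0 : Cz f).2
  have hdb : Commute d b := by
    have := (hdz.mul_right hdf)
    rwa [hf, ← mul_assoc, hzz, one_mul] at this
  have hfix : ∀ g : C0, Commute ((g : Cz f) : G) c → χ g i = i := fun g hg =>
    H.fix_point (mem_Cz.2 ((hC0m _).1 g.2)) hi hg
  have hTi : χ T0 i = i := hfix T0 (hKt c hcK).symm
  have hne1 : ∀ g : C0, g ≠ 1 → χ g ≠ 1 := fun g hg h' => hg (hχinj (h'.trans (map_one χ).symm))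
  have hDi : χ D0 i ≠ i := Iso.moves _ (hlist T0 hT02) _ (hlist D0 hD02) (hne1 _ hT01) (hne1 _ hD01)
    (fun h' => hD0T (hχinj h')) (by rw [← map_mul, ← map_pow, hDT3, map_one]) i hTi
  -- `(cd)⁴ = z`
  have hdinv : d⁻¹ = d := inv_eq_of_mul_eq_one_right hdd
  have hc' : Cls z (d * c * d) (a (χ D0 i)) := by
    have h1 := D.cls_conj (mem_Cz.2 hdz) hi
    rw [hdinv] at h1
    refine D.frame.cls_trans h1 ?_
    have h2 := D.act (emb D0) i
    rwa [show ((emb D0 : Cz z) : G) = d from rfl, hdinv] at h2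
  have hanti := H.anti_cls hi hc' (Ne.symm hDi)
  have hcd4 : (c * d) ^ 4 = z := by
    have e1 : (c * d) ^ 4 = c * (d * c * d * c) * (d * c * d) := by
      simp only [pow_succ, pow_zero, one_mul, mul_assoc]
    have e2 : d * c * d * (d * c * d) = 1 := by
      rw [show d * c * d * (d * c * d) = d * c * (d * d) * c * d by group, hdd, mul_one, mul_assoc d c c, hcc,
        mul_one, hdd]
    rw [e1, hanti, ← mul_assoc c z, ← hzc.eq,
      show z * c * (c * (d * c * d)) * (d * c * d) = z * (c * c) * (d * c * d * (d * c * d)) by group, hcc, e2,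
      mul_one, mul_one]
  -- the letters
  let F : ℕ → G := fun n => [z, b, c, d, t].getD n 1
  have hdt3 : (d * t) ^ 3 = 1 := congrArg (fun g : C0 => ((g : Cz f) : G)) hDT3
  have hsq : ∀ x y : G, x * x = 1 → y * y = 1 → Commute x y → (x * y) ^ 2 = 1 := fun x y hx hy hc => by
    rw [hc.mul_pow, pow_two, pow_two, hx, hy, one_mul]
  have hbase : ∀ w ∈ Iso.fiveList.take 17, wval F w = 1 := by
    intro w hw
    simp only [Iso.fiveList, List.take_succ_cons, List.take_zero, List.mem_cons, List.mem_nil_iff, or_false] at hw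
    rcases hw with rfl | rfl | rfl | rfl | rfl | rfl | rfl | rfl | rfl | rfl | rfl | rfl | rfl | rfl | rfl | rfl | rfl
    all_goals simp only [wval_rpt, wval_cons, wval_nil, mul_one, F, List.getD_cons_zero, List.getD_cons_succ]
    · exact hzz
    · exact hbb
    · exact hcc
    · exact hdd
    · exact ht.2.1
    · exact hzb5
    · exact hsq _ _ hzz hcc hzc
    · exact hsq _ _ hzz hdd hdz.symm
    · exact hsq _ _ hzz ht.2.1 htz.symm
    · exact hbc3
    · exact hsq _ _ hbb hdd hdb.symm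
    · exact hsq _ _ hbb ht.2.1 (hKt b hbK)
    · rw [show (8 : ℕ) = 4 * 2 from rfl, pow_mul, hcd4, pow_two, hzz]
    · exact hsq _ _ hcc ht.2.1 (hKt c hcK)
    · exact hdt3
    · rw [hcd4, hzz]
  have hF : Iso.Four F := Iso.four_of_base hbase
  have hFsq : ∀ l, l < 4 → F l * F l = 1 := fun l hl => hF.sq hl
  -- the element `h`
  set hh : G := wval F Iso.hWord with hhh
  have hids := List.all_eq_true.1 Iso.h_ids
  have hall4 : ∀ l ∈ Iso.hWord, l < 4 := by decide +kernel
  have hh3 : hh ^ 3 = 1 := by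
    rw [hhh, ← wval_rpt]
    exact Iso.transfer hF (by decide +kernel) (hids _ (by simp))
  have hcomm : ∀ l, l < 3 → Commute hh (F l) := fun l hl => by
    have h1 : wval F (Iso.hWord ++ [l] ++ Iso.hWord.reverse ++ [l]) = 1 := by
      refine Iso.transfer hF ?_ (hids _ ?_)
      · interval_cases l <;> decide +kernel
      · interval_cases l <;> simp
    rw [wval_append, wval_append, wval_append, Iso.wval_reverse (fun x hx => hFsq x (hall4 x hx)), wval_cons,
      wval_nil, mul_one, ← hhh] at h1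
    refine mul_inv_eq_iff_eq_mul.1 ?_
    rw [eq_inv_of_mul_eq_one_left h1, inv_eq_of_mul_eq_one_right (hFsq l (by omega))]
  have hhz : Commute hh z := hcomm 0 (by norm_num)
  have hhb : Commute hh b := hcomm 1 (by norm_num)
  have hhc : Commute hh c := hcomm 2 (by norm_num)
  set H0 : C0 := ⟨⟨hh, mem_Cz.2 (hhz.mul_right hhb)⟩, (hC0m _).2 hhz⟩ with hH0
  have hH03 : H0 ^ 3 = 1 := Subtype.ext (Subtype.ext (by simpa using hh3))
  have hHi : χ H0 i = i := hfix H0 hhc
  have hh1 : hh ≠ 1 := by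
    intro hone'
    set J : G := wval F Iso.jWord with hJ
    have hJc : J = wval F [0, 3, 2, 1] * z * (wval F [0, 3, 2, 1])⁻¹ := by
      rw [hJ, Iso.jWord_shape, wval_append, wval_append, Iso.wval_reverse (fun x hx => hFsq x (by
        revert x hx; decide)), wval_cons F 0 [], wval_nil, mul_one]
      rfl
    have hJconj : IsConj z J := isConj_iff.2 ⟨_, hJc.symm⟩
    have hJJ : J * J = 1 := Cfsg.Lib.InvolCalc.sq_of_order_two (order_two_of_conj H.oz hJconj)
    have hJ2 : wval F (rpt 2 (Iso.jWord ++ [1, 2]) ++ Iso.hWord.reverse) = 1 :=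
      Iso.transfer hF (by decide +kernel) Iso.j_inverts
    rw [wval_append, wval_rpt, wval_append, Iso.wval_reverse (fun x hx => hFsq x (hall4 x hx)), ← hhh, hone',
      inv_one, mul_one, wval_cons, wval_cons, wval_nil, mul_one, ← hJ] at hJ2
    change (J * (b * c)) ^ 2 = 1 at hJ2
    have hJr : J * (b * c) * J = (b * c)⁻¹ := by
      refine eq_inv_of_mul_eq_one_left ?_
      rw [show J * (b * c) * J * (b * c) = (J * (b * c)) ^ 2 by rw [pow_two]; group, hJ2]
    have or3 : orderOf (b * c) = 3 := by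
      haveI : Fact (Nat.Prime 3) := ⟨by norm_num⟩
      exact orderOf_eq_prime hbc3 hbc1
    have hJK := H.mem_K_of_invert ht S e (mul_mem hbK hcK) or3 hJconj hJr
    set JK : K := ⟨J, hJK⟩ with hJK'
    have hJP : (ψ JK : Perm (Fin 5)) ≠ 1 := fun h' => hz1 (by
      have hJ1 : J = 1 := hval JK 1 (by rw [h', map_one]; rfl)
      rw [hJ1] at hJconj
      exact isConj_one_left.1 hJconj)
    have hPinv : (ψ JK : Perm (Fin 5)) * (B * tau2) * ψ JK = (B * tau2)⁻¹ := by
      have h2 : JK * (⟨b, hbK⟩ * ⟨c, hcK⟩) * JK = (⟨b, hbK⟩ * ⟨c, hcK⟩)⁻¹ := Subtype.ext hJr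
      have h3 := congrArg (fun x : K => (ψ x : Perm (Fin 5))) h2
      simp only [map_mul, map_inv, Subgroup.coe_mul, InvMemClass.coe_inv, hBq, hCq] at h3
      exact h3
    have hfin : ∀ {u₁ u₂ k : List ℕ} {s₁ s₂ : Bool}, (∀ l ∈ u₁, l < 4) → (∀ l ∈ u₂, l < 4) →
        (∀ l ∈ Iso.jWord ++ k, l < 4) → ((Iso.kill u₁ s₁ u₂ s₂ k).all fun l => decide (l < 4)) = true →
        Cfsg.Lib.PermCert.isId 315 ((Iso.kill u₁ s₁ u₂ s₂ k).map fun l => Cfsg.Lib.SuzPres.JTwo.lineGens.getD l (0, 0)) = true →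
        J * wval F k = 1 → False := by
      intro u₁ u₂ k s₁ s₂ hu₁ hu₂ hk hlt hid hJk
      refine hz1 (Iso.kill_value hFsq hu₁ hu₂ hk ?_ (Iso.transfer hF hlt hid))
      rw [wval_append, ← hJ, hJk]
    obtain ⟨k1, k2, k3⟩ := Iso.kill_ok
    rcases Iso.inverting B hBl (ψ JK) (Iso.mem_invList' (show ψ JK * ψ JK = 1 by
        rw [← map_mul, show JK * JK = 1 from Subtype.ext hJJ, map_one])) hBC3 hBC1 hPinv hJP with r | r | r
    · have hJb : J = b := hval JK ⟨b, hbK⟩ (r.trans hBq.symm)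
      exact hfin (by decide) (by decide) (by decide) (by decide +kernel) k1 (by
        rw [wval_cons, wval_nil, mul_one, hJb]; exact hbb)
    · have hJb : J = c := hval JK ⟨c, hcK⟩ (r.trans hCq.symm)
      exact hfin (by decide) (by decide) (by decide) (by decide +kernel) k2 (by
        rw [wval_cons, wval_nil, mul_one, hJb]; exact hcc)
    · have hJb : J = b * c * b := hval JK (⟨b, hbK⟩ * ⟨c, hcK⟩ * ⟨b, hbK⟩) (by
        rw [r, map_mul, map_mul]; simp only [Subgroup.coe_mul, hBq, hCq])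
      exact hfin (by decide) (by decide) (by decide) (by decide +kernel) k3 (by
        rw [wval_cons, wval_cons, wval_cons, wval_nil, mul_one, hJb]
        show b * c * b * (b * (c * b)) = 1
        rw [show b * c * b * (b * (c * b)) = b * c * (b * b) * c * b by group, hbb, mul_one, mul_assoc b c c, hcc,
          mul_one, hbb])
  have hht : (hh * t) ^ 3 = 1 := by
    have hH01 : H0 ≠ 1 := fun h' => hh1 (congrArg (fun g : C0 => ((g : Cz f) : G)) h')
    have h1 := Iso.four_order_three _ (by rw [← map_pow, hH03, map_one]) (hne1 _ hH01) _ (hlist T0 hT02)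
      (hne1 _ hT01) i hHi hTi
    rw [← map_mul, ← map_pow] at h1
    exact congrArg (fun g : C0 => ((g : Cz f) : G)) (hχinj (h1.trans (map_one χ).symm))
  refine Iso.iso_of_five hG (f := F) (Iso.five_of_list fun w hw => ?_) hz1
  rw [← List.take_append_drop 17 Iso.fiveList, List.mem_append] at hw
  rcases hw with hw | hw
  · exact hbase w hw
  · simp only [Iso.fiveList, List.drop_succ_cons, List.drop_zero, List.mem_singleton] at hw
    subst hw
    rw [wval_rpt, wval_append, wval_cons, wval_nil, mul_one, ← hhh]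
    exact hht

end Hyp

end Cfsg.Lib.HallJankoType
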