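import Cfsg.Agent.LocalThree.HallJankoType.Glue
import Cfsg.Agent.S0215

/-!
A simple group with two classes of involutions and the centralizer of Hall-Janko type is of Hall-Janko type.
-/

set_option autoImplicit false
set_option linter.unusedSectionVars false
set_option linter.style.haveILetI false

namespace Cfsg.Lib.HallJankoType

open Subgroup Equiv

universe u

variable {G : Type u} [Group G] [Finite G] {z : G} {Q : Subgroup G} {a : Fin 5 → G} {σ : Cz z →* Perm (Fin 5)}

namespace Iso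

theorem has_fixed : ∀ p : Perm (Fin 5), Perm.sign p = 1 → p * p = 1 → ∃ i, p i = i := by decide +kernel

/-- In a simple group `z` is not weakly closed in `Q`. -/
theorem not_weakly_closed [IsSimpleGroup G] (D : Data z Q a σ) (hz : orderOf z = 2)
    (htwo : ∃ x y : G, orderOf x = 2 ∧ orderOf y = 2 ∧ ¬ IsConj x y) :
    ∃ g : G, g * z * g⁻¹ ∈ Q ∧ g * z * g⁻¹ ≠ z := by
  classical
  haveI : Fact (Nat.Prime 2) := ⟨Nat.prime_two⟩
  by_contra hno
  push Not at hno
  obtain ⟨P, hP⟩ := D.frame.x2.isP.exists_le_sylow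
  -- `z` is central in `P`
  have hzP : ∀ v ∈ (P : Subgroup G), Commute v z := by
    haveI : Nontrivial (P : Subgroup G) :=
      ⟨⟨⟨z, hP D.frame.x2.mem⟩, 1, fun e => D.frame.x2.ne (congrArg Subtype.val e)⟩⟩
    haveI := P.isPGroup'.center_nontrivial
    obtain ⟨c, hc⟩ := exists_ne (1 : center (P : Subgroup G))
    have hcomm : ∀ v ∈ (P : Subgroup G), Commute v ((c : (P : Subgroup G)) : G) := fun v hv =>
      congrArg Subtype.val (mem_center_iff.1 c.2 ⟨v, hv⟩)
    have hcQ : ((c : (P : Subgroup G)) : G) ∈ centralizer (Q : Set G) :=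
      mem_centralizer_iff.2 fun q hq => (hcomm q (hP hq)).eq
    rcases D.frame.x2.cen _ (D.cen hcQ) (fun q hq => mem_centralizer_iff.1 hcQ q hq) with e | e
    · exact absurd (Subtype.ext (Subtype.ext e)) hc
    · exact fun v hv => e ▸ hcomm v hv
  -- some other conjugate lies in `P`
  obtain ⟨g, hgP, hgz⟩ : ∃ g : G, g * z * g⁻¹ ∈ (P : Subgroup G) ∧ g * z * g⁻¹ ≠ z := by
    by_contra hiso
    push Not at hiso
    obtain ⟨N, hN, hodd, hcom⟩ := Cfsg.Agent.S0215.result P z hz (hP D.frame.x2.mem) hiso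
    rcases hN.eq_bot_or_eq_top with r | r
    · subst r
      obtain ⟨x, y, ox, oy, hxy⟩ := htwo
      have hzc : z ∈ center G := mem_center_iff.2 fun v => by
        have h1 := mem_bot.1 (hcom v)
        rw [mul_inv_eq_one, mul_inv_eq_iff_eq_mul] at h1
        exact h1.symm
      have htop : center G = ⊤ := ((inferInstance : (center G).Normal).eq_bot_or_eq_top).resolve_left fun e =>
        D.frame.x2.ne (mem_bot.1 (e ▸ hzc))
      refine hxy ?_
      by_cases h : x = y
      · rw [h]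
      exfalso
      -- an abelian simple group has one involution
      haveI : Fact (orderOf z).Prime := ⟨by rw [hz]; exact Nat.prime_two⟩
      haveI hn : (zpowers z).Normal := ⟨fun n hn g => by
        rw [(mem_center_iff.1 (htop ▸ mem_top n) g), mul_inv_cancel_right]; exact hn⟩
      have hzt : zpowers z = ⊤ := hn.eq_bot_or_eq_top.resolve_left fun e =>
        D.frame.x2.ne (mem_bot.1 (e ▸ mem_zpowers z))
      have hall : ∀ v : G, v ≠ 1 → v = z := fun v hv => by
        have hv' : v ∈ zpowers z := hzt ▸ mem_top v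
        rw [Cfsg.Lib.LargeExtra.mem_zpowers_two D.zz] at hv'
        exact hv'.resolve_left hv
      exact h ((hall x (fun e => by simp [e] at ox)).trans (hall y (fun e => by simp [e] at oy)).symm)
    · rw [r, card_top] at hodd
      exact Nat.not_even_iff_odd.2 hodd (even_iff_two_dvd.2 (hz ▸ orderOf_dvd_natCard z))
  -- `y = g z g⁻¹` and its partner are outer
  set y := g * z * g⁻¹ with hy
  have hyC : y ∈ Cz z := mem_Cz.2 (hzP y hgP)
  have hyQ : y ∉ Q := fun h => hgz (hno g h)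
  have hy' : g⁻¹ * z * g ∈ Cz z := mem_Cz.2 (by
    have := (Commute.conj_iff g⁻¹).2 (mem_Cz.1 hyC)
    rw [hy, inv_inv, show g⁻¹ * (g * z * g⁻¹) * g = z by group] at this
    exact this.symm)
  have hy'Q : g⁻¹ * z * g ∉ Q := fun h => hgz (by
    have h1 := hno g⁻¹ (by rwa [inv_inv])
    rw [inv_inv] at h1
    calc g * z * g⁻¹ = g * (g⁻¹ * z * g) * g⁻¹ := by rw [h1]
      _ = z := by group)
  have hsq : ∀ d : G, d * z * d⁻¹ * (d * z * d⁻¹) = 1 := fun d => by
    rw [show d * z * d⁻¹ * (d * z * d⁻¹) = d * (z * z) * d⁻¹ by group, D.zz]; group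
  have hy'sq : g⁻¹ * z * g * (g⁻¹ * z * g) = 1 := by simpa using hsq g⁻¹
  obtain ⟨i, hi⟩ := has_fixed _ (D.sign ⟨_, hy'⟩) (D.sigma_inv_sq hy' hy'sq)
  have hcai := D.fixed_commute hy' hy'sq hy'Q hi
  have hzi := D.commQ (D.frame.mem i)
  have hconj : ∀ v, v ∈ Q → IsConj z v → v = z := fun v hv hc => by
    obtain ⟨d, hd⟩ := isConj_iff.1 hc
    rw [← hd]; exact hno d (hd ▸ hv)
  have key : ∀ v : G, v ∈ Q → v * v = 1 → v ≠ 1 → v ≠ z → Commute (g⁻¹ * z * g) v → g * v * g⁻¹ ∈ Q := by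
    intro v hv hvv hv1 hvz hc
    by_contra hgv
    have h1 : g * v * g⁻¹ ∈ Cz z := mem_Cz.2 (by
      have := ((Commute.conj_iff g).2 hc).symm
      rwa [show g * (g⁻¹ * z * g) * g⁻¹ = z by group] at this)
    have hO : Outer z Q (g * v * g⁻¹) := ⟨h1, by
      rw [show g * v * g⁻¹ * (g * v * g⁻¹) = g * (v * v) * g⁻¹ by group, hvv]; group, hgv⟩
    obtain ⟨c, -, hc'⟩ := D.outer_conj (x := y) ⟨hyC, hsq g, hyQ⟩ hO
    exact hvz (hconj v hv (((isConj_iff.2 ⟨g, rfl⟩ : IsConj z y).trans (isConj_iff.2 ⟨c, hc'⟩)).trans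
      (isConj_iff.2 ⟨g⁻¹, by group⟩)))
  obtain ⟨hiQ, hii, hi1, hiz⟩ := D.frame.pt_invol (i := i) (Or.inl rfl)
  have hA := key _ hiQ hii hi1 hiz hcai
  have hB := key (z * a i) (mul_mem D.frame.x2.mem hiQ)
    (by rw [hzi.symm.mul_mul_mul_comm, D.zz, hii, one_mul])
    (fun e => hiz (by rw [eq_inv_of_mul_eq_one_right e, inv_eq_of_mul_eq_one_right D.zz]))
    (fun e => hi1 (mul_eq_left.1 e))
    ((mem_Cz.1 hy').mul_right hcai)
  refine hyQ ?_
  have := mul_mem hB hA
  rwa [show g * (z * a i) * g⁻¹ * (g * a i * g⁻¹) = g * z * (a i * a i) * g⁻¹ by group, hii, mul_one] at this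

end Iso

/-- The hypotheses of the simple form give those of this folder. -/
theorem exists_hyp_of_simple [IsSimpleGroup G] {t : G} (ht : orderOf t = 2) (Q : Subgroup (Cz t)) [Q.Normal]
    (hQ : Cfsg.IsExtraspecial 2 Q) (hcard : Nat.card Q = 32) (h2c : centralizer (Q : Set (Cz t)) ≤ Q)
    (e : (Cz t) ⧸ Q ≃* alternatingGroup (Fin 5))
    (htwo : ∃ x y : G, orderOf x = 2 ∧ orderOf y = 2 ∧ ¬ IsConj x y) :
    ∃ (a : Fin 5 → G) (σ : Cz t →* Equiv.Perm (Fin 5)), Hyp t (Q.map (Cz t).subtype) a σ := by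
  obtain ⟨a, σ, D⟩ := exists_data_of_cen ht Q h2c hQ (by rw [hcard]; norm_num)
    (e.toMonoidHom.comp (QuotientGroup.mk' Q)) (e.surjective.comp (QuotientGroup.mk'_surjective Q)) (by
      ext c
      rw [MonoidHom.mem_ker]
      show e (c : (Cz t) ⧸ Q) = 1 ↔ _
      rw [MulEquiv.map_eq_one_iff, QuotientGroup.eq_one_iff])
  exact ⟨a, σ, D, Iso.not_weakly_closed D ht htwo, htwo⟩

end Cfsg.Lib.HallJankoType
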